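import Mathlib
import Groth.Prelude.Def_PP16
import Groth.Agent.PP16Lib.SymPow

/-!
# The canonical map `Sym^i(J/J²) → J^i/J^(i+1)` and polynomial coordinates on it
-/

set_option autoImplicit false

universe u

open scoped TensorProduct

namespace AdicJacLib

variable {B : Type u} [CommRing B] (J : Ideal B)

theorem prod_mem_pow {R : Type*} [CommRing R] (I : Ideal R) {ι : Type*} (s : Finset ι) (x : ι → R)
    (hx : ∀ i ∈ s, x i ∈ I) : ∏ i ∈ s, x i ∈ I ^ s.card := by
  rw [← Finset.prod_const]
  exact Ideal.prod_mem_prod hx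

theorem prod_sub_prod_mem {R : Type*} [CommRing R] (I : Ideal R) {ι : Type*} (s : Finset ι)
    (x y : ι → R) (hy : ∀ i ∈ s, y i ∈ I) (h : ∀ i ∈ s, x i - y i ∈ I ^ 2) :
    ∏ i ∈ s, x i - ∏ i ∈ s, y i ∈ I ^ (s.card + 1) := by
  classical
  have hx : ∀ i ∈ s, x i ∈ I := fun i hi => by
    have h1 := add_mem (Ideal.pow_le_self two_ne_zero (h i hi)) (hy i hi)
    rwa [sub_add_cancel] at h1
  induction s using Finset.induction_on with
  | empty => simp
  | insert a s ha ih =>
    rw [Finset.prod_insert ha, Finset.prod_insert ha, Finset.card_insert_of_notMem ha,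
      show x a * ∏ i ∈ s, x i - y a * ∏ i ∈ s, y i =
        (x a - y a) * ∏ i ∈ s, x i + y a * (∏ i ∈ s, x i - ∏ i ∈ s, y i) by ring]
    refine add_mem ?_ ?_
    · rw [show s.card + 1 + 1 = 2 + s.card by ring, pow_add]
      exact Ideal.mul_mem_mul (h a (by simp))
        (prod_mem_pow I s x fun i hi => hx i (by simp [hi]))
    · rw [pow_succ' _ (s.card + 1)]
      exact Ideal.mul_mem_mul (hy a (by simp))
        (ih (fun i hi => hy i (by simp [hi])) (fun i hi => h i (by simp [hi]))
          fun i hi => hx i (by simp [hi]))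

/-- The class in `J^n/J^(n+1)`. -/
noncomputable def gcl (n : ℕ) (x : B) (hx : x ∈ J ^ n) : PP16.grJ B J n :=
  Submodule.Quotient.mk ⟨x, hx⟩

theorem gcl_eq_gcl {n : ℕ} {x y : B} (hx : x ∈ J ^ n) (hy : y ∈ J ^ n) :
    gcl J n x hx = gcl J n y hy ↔ x - y ∈ J ^ (n + 1) := by
  rw [gcl, gcl, Submodule.Quotient.eq]
  rfl

theorem gcl_eq_zero {n : ℕ} {x : B} (hx : x ∈ J ^ n) : gcl J n x hx = 0 ↔ x ∈ J ^ (n + 1) := by
  rw [gcl, Submodule.Quotient.mk_eq_zero]
  rfl

theorem gcl_add {n : ℕ} {x y : B} (hx : x ∈ J ^ n) (hy : y ∈ J ^ n) :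
    gcl J n x hx + gcl J n y hy = gcl J n (x + y) (add_mem hx hy) := rfl

theorem smul_gcl {n : ℕ} (c : B) {x : B} (hx : x ∈ J ^ n) :
    c • gcl J n x hx = gcl J n (c * x) (Ideal.mul_mem_left _ _ hx) := rfl

theorem gcl_surjective {n : ℕ} (q : PP16.grJ B J n) : ∃ x hx, gcl J n x hx = q := by
  obtain ⟨⟨x, hx⟩, rfl⟩ := Submodule.Quotient.mk_surjective _ q
  exact ⟨x, hx, rfl⟩

/-- A chosen representative in `J` of a class in `J/J²`. -/
noncomputable def rep (c : J.Cotangent) : J := Function.surjInv J.toCotangent_surjective c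

theorem toCotangent_rep (c : J.Cotangent) : J.toCotangent (rep J c) = c :=
  Function.surjInv_eq J.toCotangent_surjective c

theorem prod_coe_mem {ι : Type*} [Fintype ι] (z : ι → J) :
    ∏ i, (z i : B) ∈ J ^ Fintype.card ι :=
  prod_mem_pow J Finset.univ _ fun i _ => (z i).2

/-- The multilinear product map `(J/J²)^ι → J^m/J^(m+1)`. -/
noncomputable def gprod (ι : Type u) [Fintype ι] :
    MultilinearMap B (fun _ : ι => J.Cotangent) (PP16.grJ B J (Fintype.card ι)) where
  toFun x := gcl J (Fintype.card ι) (∏ i, (rep J (x i) : B)) (prod_coe_mem J _)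
  map_update_add' := fun {_} x k a b => by
    have hc : ∀ c, ∏ i, (rep J (Function.update x k c i) : B) =
        (rep J c : B) * ∏ i ∈ Finset.univ.erase k, (rep J (x i) : B) := fun c => by
      rw [← Finset.mul_prod_erase _ _ (Finset.mem_univ k), Function.update_self]
      refine congrArg _ (Finset.prod_congr rfl fun i hi => ?_)
      rw [Function.update_of_ne (Finset.ne_of_mem_erase hi)]
    rw [gcl_add, gcl_eq_gcl, hc, hc, hc, ← add_mul, ← sub_mul]
    have h2 : (rep J (a + b) : B) - (rep J a + rep J b) ∈ J ^ 2 :=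
      (J.toCotangent_eq (x := rep J (a + b)) (y := rep J a + rep J b)).1
        (by rw [map_add, toCotangent_rep, toCotangent_rep, toCotangent_rep])
    have hlen : (Finset.univ.erase k).card + 1 = Fintype.card ι :=
      Finset.card_erase_add_one (Finset.mem_univ k)
    rw [show Fintype.card ι + 1 = 2 + (Finset.univ.erase k).card by omega, pow_add]
    exact Ideal.mul_mem_mul h2 (prod_mem_pow J _ _ fun i _ => (rep J (x i)).2)
  map_update_smul' := fun {_} x k c a => by
    have hc : ∀ c, ∏ i, (rep J (Function.update x k c i) : B) =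
        (rep J c : B) * ∏ i ∈ Finset.univ.erase k, (rep J (x i) : B) := fun c => by
      rw [← Finset.mul_prod_erase _ _ (Finset.mem_univ k), Function.update_self]
      refine congrArg _ (Finset.prod_congr rfl fun i hi => ?_)
      rw [Function.update_of_ne (Finset.ne_of_mem_erase hi)]
    rw [smul_gcl, gcl_eq_gcl, hc, hc, ← mul_assoc, ← sub_mul]
    have h2 : (rep J (c • a) : B) - c * rep J a ∈ J ^ 2 :=
      (J.toCotangent_eq (x := rep J (c • a)) (y := c • rep J a)).1
        (by rw [map_smul, toCotangent_rep, toCotangent_rep])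
    have hlen : (Finset.univ.erase k).card + 1 = Fintype.card ι :=
      Finset.card_erase_add_one (Finset.mem_univ k)
    rw [show Fintype.card ι + 1 = 2 + (Finset.univ.erase k).card by omega, pow_add]
    exact Ideal.mul_mem_mul h2 (prod_mem_pow J _ _ fun i _ => (rep J (x i)).2)

theorem gprod_toCotangent {ι : Type u} [Fintype ι] (z : ι → J) :
    gprod J ι (fun i => J.toCotangent (z i)) = PP16.zetaJ B J z := by
  show gcl J _ _ _ = gcl J _ (∏ i, (z i : B)) _
  refine (gcl_eq_gcl J _ (prod_coe_mem J z)).2 ?_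
  rw [← Finset.card_univ]
  exact prod_sub_prod_mem J Finset.univ _ _ (fun i _ => (z i).2)
    fun i _ => J.toCotangent_eq.1 (toCotangent_rep J _)

/-- The canonical map `Sym^m(J/J²) → J^m/J^(m+1)`. -/
noncomputable def canGr (ι : Type u) [Fintype ι] :
    SymmetricPower B ι J.Cotangent →ₗ[B] PP16.grJ B J (Fintype.card ι) :=
  PP16Lib.symLift (gprod J ι) fun e x =>
    (gcl_eq_gcl J _ _).2 (by
      rw [Equiv.prod_comp e fun i => (rep J (x i) : B), sub_self]; exact zero_mem _)

theorem canGr_tprod {ι : Type u} [Fintype ι] (z : ι → J) :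
    canGr J ι (SymmetricPower.tprod B fun i => J.toCotangent (z i)) = PP16.zetaJ B J z := by
  exact (PP16Lib.symLift_tprod _ _ _).trans (gprod_toCotangent J z)

theorem span_tprod_toCotangent (ι : Type u) [Fintype ι] :
    Submodule.span B (Set.range fun z : ι → J =>
      SymmetricPower.tprod B fun i => J.toCotangent (z i)) = ⊤ :=
  PP16Lib.span_tprod_of_span (fun z : J => J.toCotangent z) <| by
    rw [Set.range_eq_univ.2 J.toCotangent_surjective, Submodule.span_univ]

theorem symGrBijective_iff :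
    PP16.SymGrBijective B J ↔
      ∀ (ι : Type u) [Fintype ι] [Nonempty ι], Function.Bijective (canGr J ι) := by
  constructor
  · intro h ι _ _
    obtain ⟨φ, hφ, hbij⟩ := h ι
    have : φ = canGr J ι := LinearMap.ext_on (span_tprod_toCotangent J ι) (by
      rintro _ ⟨z, rfl⟩
      rw [hφ, canGr_tprod])
    rwa [← this]
  · intro h ι _ _
    exact ⟨canGr J ι, canGr_tprod J, h ι⟩

theorem mem_span_prod (n : ℕ) :
    ∀ x ∈ J ^ n, x ∈ Submodule.span B (Set.range fun z : Fin n → J => ∏ k, (z k : B)) := by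
  induction n with
  | zero =>
    intro x _
    have h1 : (1 : B) ∈ Submodule.span B (Set.range fun z : Fin 0 → J => ∏ k, (z k : B)) :=
      Submodule.subset_span ⟨fun k => k.elim0, by simp⟩
    have h2 := Submodule.smul_mem _ x h1
    rwa [smul_eq_mul, mul_one] at h2
  | succ n ih =>
    intro x hx
    rw [pow_succ'] at hx
    refine Submodule.mul_induction_on hx (fun a ha b hb => ?_) fun a b ha hb => add_mem ha hb
    have hspan := ih b hb
    clear hb hx
    induction hspan using Submodule.span_induction with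
    | mem y hy =>
      obtain ⟨z, rfl⟩ := hy
      exact Submodule.subset_span ⟨Fin.cons ⟨a, ha⟩ z, by simp [Fin.prod_univ_succ]⟩
    | zero => rw [mul_zero]; exact zero_mem _
    | add y y' _ _ hy hy' => rw [mul_add]; exact add_mem hy hy'
    | smul c y _ hy => rw [mul_smul_comm]; exact Submodule.smul_mem _ c hy

theorem canGr_surjective (ι : Type u) [Fintype ι] : Function.Surjective (canGr J ι) := by
  intro q
  obtain ⟨x, hx, rfl⟩ := gcl_surjective J q
  suffices h : ∀ y ∈ Submodule.span B
      (Set.range fun z : Fin (Fintype.card ι) → J => ∏ k, (z k : B)),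
      ∃ hy : y ∈ J ^ Fintype.card ι, gcl J _ y hy ∈ LinearMap.range (canGr J ι) by
    obtain ⟨_, h'⟩ := h x (mem_span_prod J _ x hx)
    exact h'
  intro y hy
  induction hy using Submodule.span_induction with
  | mem y hy =>
    obtain ⟨z, rfl⟩ := hy
    let e := Fintype.equivFin ι
    have he : ∏ i, (z (e i) : B) = ∏ k, (z k : B) := Equiv.prod_comp e fun k => (z k : B)
    exact ⟨(congrArg (· ∈ J ^ Fintype.card ι) he).mp (prod_coe_mem J fun i => z (e i)),
      SymmetricPower.tprod B fun i => J.toCotangent (z (e i)),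
      (canGr_tprod J _).trans ((gcl_eq_gcl J (prod_coe_mem J fun i => z (e i)) _).2
        (by rw [he, sub_self]; exact zero_mem _))⟩
  | zero => exact ⟨zero_mem _, by rw [show gcl J _ 0 (zero_mem _) = 0 from rfl]; exact zero_mem _⟩
  | add y y' _ _ hy hy' =>
    obtain ⟨h1, h1'⟩ := hy
    obtain ⟨h2, h2'⟩ := hy'
    exact ⟨add_mem h1 h2, gcl_add J h1 h2 ▸ add_mem h1' h2'⟩
  | smul c y _ hy =>
    obtain ⟨h1, h1'⟩ := hy
    exact ⟨Ideal.mul_mem_left _ c h1, smul_gcl J c h1 ▸ Submodule.smul_mem _ c h1'⟩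

section Coordinates

variable {σ : Type u} (j : J.Cotangent →ₗ[B ⧸ J] σ →₀ (B ⧸ J))

/-- `x ↦ ∏ i, linForm (j (x i))` into polynomials over `B/J`. -/
noncomputable def polyB (ι : Type u) [Fintype ι] :
    SymmetricPower B ι J.Cotangent →ₗ[B] MvPolynomial σ (B ⧸ J) :=
  PP16Lib.symLift ((MultilinearMap.mkPiAlgebra B ι (MvPolynomial σ (B ⧸ J))).compLinearMap
      fun _ => ((PP16Lib.linForm (B ⧸ J) σ).comp j).restrictScalars B) fun e x => by
    simp only [MultilinearMap.compLinearMap_apply, MultilinearMap.mkPiAlgebra_apply]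
    exact Equiv.prod_comp e fun i => ((PP16Lib.linForm (B ⧸ J) σ).comp j).restrictScalars B (x i)

theorem polyB_tprod {ι : Type u} [Fintype ι] (x : ι → J.Cotangent) :
    polyB J j ι (SymmetricPower.tprod B x) = ∏ i, PP16Lib.linForm (B ⧸ J) σ (j (x i)) := by
  rw [polyB, PP16Lib.symLift_tprod]
  simp

theorem isHomogeneous_polyB {ι : Type u} [Fintype ι] (t : SymmetricPower B ι J.Cotangent) :
    (polyB J j ι t).IsHomogeneous (Fintype.card ι) := by
  have : Submodule.span B (Set.range (SymmetricPower.tprod B (ι := ι) (M := J.Cotangent))) ≤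
      ((MvPolynomial.homogeneousSubmodule σ (B ⧸ J) (Fintype.card ι)).restrictScalars B).comap
        (polyB J j ι) := by
    rw [Submodule.span_le]
    rintro _ ⟨x, rfl⟩
    rw [SetLike.mem_coe, Submodule.mem_comap, polyB_tprod]
    have h := MvPolynomial.IsHomogeneous.prod Finset.univ
      (fun i => PP16Lib.linForm (B ⧸ J) σ (j (x i))) (fun _ => 1)
      fun i _ => PP16Lib.isHomogeneous_linForm _
    simpa using h
  exact this (SymmetricPower.span_tprod_eq_top B ι J.Cotangent ▸ Submodule.mem_top)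

theorem smul_cotangent_eq_zero {c : B} (hc : c ∈ J) (x : J.Cotangent) : c • x = 0 := by
  obtain ⟨z, rfl⟩ := J.toCotangent_surjective x
  rw [← map_smul, Ideal.toCotangent_eq_zero]
  show c * (z : B) ∈ J ^ 2
  rw [pow_two]
  exact Ideal.mul_mem_mul hc z.2

theorem smul_sym_eq_zero {ι : Type u} [Fintype ι] [Nonempty ι] {c : B} (hc : c ∈ J)
    (t : SymmetricPower B ι J.Cotangent) : c • t = 0 := by
  classical
  have h : c • (LinearMap.id : SymmetricPower B ι J.Cotangent →ₗ[B] _) = 0 :=
    PP16Lib.sym_hom_ext fun x => by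
      obtain ⟨i⟩ := ‹Nonempty ι›
      rw [LinearMap.smul_apply, LinearMap.id_apply, LinearMap.zero_apply]
      conv_lhs => rw [← Function.update_eq_self i x]
      rw [← (SymmetricPower.tprod B).map_update_smul, smul_cotangent_eq_zero J hc,
        (SymmetricPower.tprod B).map_coord_zero i (Function.update_self _ _ _)]
  exact LinearMap.congr_fun h t

theorem polyB_injective (q : (σ →₀ B ⧸ J) →ₗ[B ⧸ J] J.Cotangent) (hq : ∀ x, q (j x) = x)
    {ι : Type u} [Fintype ι] [Nonempty ι] : Function.Injective (polyB J j ι) := by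
  classical
  let mk : B →+* B ⧸ J := Ideal.Quotient.mk J
  let qB : (σ →₀ B) →ₗ[B] J.Cotangent :=
    (q.restrictScalars B).comp (Finsupp.mapRange.linearMap (Algebra.linearMap B (B ⧸ J)))
  obtain ⟨g₀, hg₀⟩ := PP16Lib.exists_polyMap_leftInverse (ι := ι)
    (LinearMap.id : (σ →₀ B) →ₗ[B] σ →₀ B) LinearMap.id fun x => rfl
  let Q : SymmetricPower B ι (σ →₀ B) →ₗ[B] SymmetricPower B ι J.Cotangent :=
    PP16Lib.symLift ((SymmetricPower.tprod B).compLinearMap fun _ => qB) fun e x => by
      simp only [MultilinearMap.compLinearMap_apply]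
      exact SymmetricPower.tprod_equiv e fun i => qB (x i)
  let h := Q.comp g₀
  have hlift : ∀ t, ∃ F : MvPolynomial σ B, MvPolynomial.map mk F = polyB J j ι t ∧ h F = t := by
    intro t
    have ht : t ∈ Submodule.span B (Set.range (SymmetricPower.tprod B (ι := ι) (M := J.Cotangent))) :=
      SymmetricPower.span_tprod_eq_top B ι J.Cotangent ▸ Submodule.mem_top
    induction ht using Submodule.span_induction with
    | mem t ht =>
      obtain ⟨x, rfl⟩ := ht
      choose f hf using fun i =>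
        Finsupp.mapRange_surjective mk (map_zero mk) Ideal.Quotient.mk_surjective (j (x i))
      refine ⟨PP16Lib.polyMap (ι := ι) LinearMap.id (SymmetricPower.tprod B f), ?_, ?_⟩
      · rw [PP16Lib.polyMap_tprod, map_prod, polyB_tprod]
        refine Finset.prod_congr rfl fun i _ => ?_
        rw [← hf i, LinearMap.id_apply]
        induction f i using Finsupp.induction_linear with
        | zero => simp
        | add a b ha hb =>
          rw [map_add, map_add, ha, hb, Finsupp.mapRange_add (map_add mk), map_add]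
        | single a r =>
          simp [PP16Lib.linForm, MvPolynomial.smul_eq_C_mul]
      · show Q (g₀ _) = _
        rw [hg₀, PP16Lib.symLift_tprod]
        simp only [MultilinearMap.compLinearMap_apply]
        congr 1
        funext i
        show q (Finsupp.mapRange mk (map_zero mk) (f i)) = x i
        exact (congrArg q (hf i)).trans (hq _)
    | zero => exact ⟨0, by simp, map_zero h⟩
    | add t t' _ _ ht ht' =>
      obtain ⟨F, hF, hF'⟩ := ht
      obtain ⟨G, hG, hG'⟩ := ht'
      exact ⟨F + G, by rw [map_add, map_add, hF, hG], by rw [map_add, hF', hG']⟩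
    | smul c t _ ht =>
      obtain ⟨F, hF, hF'⟩ := ht
      refine ⟨c • F, ?_, by rw [map_smul, hF']⟩
      rw [map_smul (polyB J j ι), ← hF, MvPolynomial.smul_eq_C_mul, map_mul, MvPolynomial.map_C,
        ← algebraMap_smul (B ⧸ J) c, MvPolynomial.smul_eq_C_mul]
      rfl
  rw [injective_iff_map_eq_zero]
  intro t ht
  obtain ⟨F, hF, hF'⟩ := hlift t
  rw [ht] at hF
  rw [← hF', F.as_sum, map_sum]
  refine Finset.sum_eq_zero fun d _ => ?_
  have hc : F.coeff d ∈ J := by
    rw [← Ideal.Quotient.eq_zero_iff_mem, ← MvPolynomial.coeff_map, hF, MvPolynomial.coeff_zero]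
  rw [show MvPolynomial.monomial d (F.coeff d) = F.coeff d • MvPolynomial.monomial d (1 : B) by
    rw [MvPolynomial.smul_monomial, smul_eq_mul, mul_one], map_smul, smul_sym_eq_zero J hc]

/-- The graded comparison: if `χ : B → R'` and `Φ` on polynomials agree modulo `𝔪`, resp. `𝔪²`,
then they agree on `Sym^i` modulo `𝔪^(i+1)`. -/
theorem gr_compat {R' : Type*} [CommRing R'] (𝔪 : Ideal R') (χ : B →+* R')
    (Φ : MvPolynomial σ (B ⧸ J) →+* R') (hJ : ∀ z ∈ J, χ z ∈ 𝔪)
    (hC : ∀ b, Φ (MvPolynomial.C (Ideal.Quotient.mk J b)) - χ b ∈ 𝔪)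
    (hX : ∀ z : J, Φ (PP16Lib.linForm (B ⧸ J) σ (j (J.toCotangent z))) - χ z ∈ 𝔪 ^ 2)
    {ι : Type u} [Fintype ι] (t : SymmetricPower B ι J.Cotangent) :
    ∃ x hx, canGr J ι t = gcl J (Fintype.card ι) x hx ∧
      Φ (polyB J j ι t) - χ x ∈ 𝔪 ^ (Fintype.card ι + 1) := by
  have hpow : ∀ n, ∀ x ∈ J ^ n, χ x ∈ 𝔪 ^ n := fun n x hx =>
    Ideal.pow_right_mono (Ideal.map_le_iff_le_comap.2 hJ) n
      (Ideal.map_pow χ J n ▸ Ideal.mem_map_of_mem χ hx)
  have ht : t ∈ Submodule.span B
      (Set.range fun z : ι → J => SymmetricPower.tprod B fun i => J.toCotangent (z i)) :=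
    span_tprod_toCotangent J ι ▸ Submodule.mem_top
  induction ht using Submodule.span_induction with
  | mem t ht =>
    obtain ⟨z, rfl⟩ := ht
    refine ⟨∏ i, (z i : B), prod_coe_mem J z, canGr_tprod J z, ?_⟩
    rw [polyB_tprod, map_prod, map_prod, ← Finset.card_univ]
    exact prod_sub_prod_mem 𝔪 Finset.univ _ _ (fun i _ => hJ _ (z i).2) fun i _ => hX (z i)
  | zero => exact ⟨0, zero_mem _, by rw [map_zero]; rfl, by simp⟩
  | add t t' _ _ ht ht' =>
    obtain ⟨x, hx, h1, h2⟩ := ht
    obtain ⟨y, hy, h3, h4⟩ := ht'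
    refine ⟨x + y, add_mem hx hy, by rw [map_add, h1, h3, gcl_add], ?_⟩
    rw [map_add, map_add, map_add, add_sub_add_comm]
    exact add_mem h2 h4
  | smul c t _ ht =>
    obtain ⟨x, hx, h1, h2⟩ := ht
    refine ⟨c * x, Ideal.mul_mem_left _ c hx, by rw [map_smul, h1, smul_gcl], ?_⟩
    rw [map_smul, ← algebraMap_smul (B ⧸ J) c, MvPolynomial.smul_eq_C_mul, map_mul, map_mul]
    have hmem : Φ (polyB J j ι t) ∈ 𝔪 ^ Fintype.card ι := by
      have h5 := add_mem (Ideal.pow_le_pow_right (Nat.le_succ _) h2) (hpow _ x hx)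
      rwa [sub_add_cancel] at h5
    rw [show Φ (MvPolynomial.C (algebraMap B (B ⧸ J) c)) * Φ (polyB J j ι t) - χ c * χ x =
      (Φ (MvPolynomial.C (algebraMap B (B ⧸ J) c)) - χ c) * Φ (polyB J j ι t) +
        χ c * (Φ (polyB J j ι t) - χ x) by ring]
    refine add_mem ?_ (Ideal.mul_mem_left _ _ h2)
    rw [pow_succ']
    exact Ideal.mul_mem_mul (hC c) hmem

/-- A homogeneous polynomial of positive degree, with the coordinates projected, lies in the image
of the symmetric power. -/
theorem exists_polyB_eq (q : (σ →₀ B ⧸ J) →ₗ[B ⧸ J] J.Cotangent) {n : ℕ}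
    {F : MvPolynomial σ (B ⧸ J)} (hF : F.IsHomogeneous n) :
    ∃ t : SymmetricPower B (ULift.{u} (Fin n)) J.Cotangent, polyB J j _ t =
      MvPolynomial.aeval
        (fun p => PP16Lib.linForm (B ⧸ J) σ (j (q (Finsupp.single p 1)))) F := by
  let π : MvPolynomial σ (B ⧸ J) →ₐ[B ⧸ J] MvPolynomial σ (B ⧸ J) := MvPolynomial.aeval
    (fun p => PP16Lib.linForm (B ⧸ J) σ (j (q (Finsupp.single p 1))))
  show π F ∈ LinearMap.range (polyB J j (ULift.{u} (Fin n)))
  rw [F.as_sum, map_sum]
  refine Submodule.sum_mem _ fun d hd => ?_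
  obtain ⟨c, hc⟩ := Ideal.Quotient.mk_surjective (F.coeff d)
  have hl : (Finsupp.toMultiset d).toList.length = n := by
    rw [Multiset.length_toList, Finsupp.card_toMultiset]
    exact (hF.degree_eq_sum_deg_support hd).symm
  let l := (Finsupp.toMultiset d).toList
  let f : ULift.{u} (Fin n) → σ := fun k => l.get (Fin.cast hl.symm k.down)
  have hmon : (MvPolynomial.monomial d (1 : B ⧸ J) : MvPolynomial σ (B ⧸ J)) =
      ∏ k, MvPolynomial.X (f k) := by
    have h1 : (MvPolynomial.monomial d (1 : B ⧸ J) : MvPolynomial σ (B ⧸ J)) =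
        ((Finsupp.toMultiset d).map MvPolynomial.X).prod := by
      rw [MvPolynomial.monomial_eq, map_one, one_mul, Finsupp.toMultiset_map, Finsupp.prod_toMultiset,
        Finsupp.prod_mapDomain_index (fun b => pow_zero _) (fun b m m' => pow_add _ _ _)]
    rw [h1, ← Multiset.coe_toList (Finsupp.toMultiset d), Multiset.map_coe, Multiset.prod_coe,
      show ∏ k, (MvPolynomial.X (f k) : MvPolynomial σ (B ⧸ J)) =
        ∏ k : Fin n, MvPolynomial.X (l.get (Fin.cast hl.symm k)) from
        Equiv.prod_comp Equiv.ulift fun k : Fin n => MvPolynomial.X (l.get (Fin.cast hl.symm k))]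
    rw [← Fin.prod_univ_getElem (l.map MvPolynomial.X)]
    exact Fintype.prod_equiv (finCongr (by rw [List.length_map]; exact hl)) _ _ fun k => by simp [l]
  refine ⟨c • SymmetricPower.tprod B fun k => q (Finsupp.single (f k) 1), ?_⟩
  rw [map_smul, polyB_tprod, ← algebraMap_smul (B ⧸ J) c, Ideal.Quotient.algebraMap_eq, hc,
    show MvPolynomial.monomial d (F.coeff d) =
      F.coeff d • (MvPolynomial.monomial d (1 : B ⧸ J) : MvPolynomial σ (B ⧸ J)) by
      rw [MvPolynomial.smul_monomial, smul_eq_mul, mul_one],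
    map_smul, hmon, map_prod]
  simp [π]

end Coordinates

end AdicJacLib
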