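import Mathlib
import Groth.Prelude.Def_CAlgX
import Groth.Prelude.Def_EGA41
import Groth.Agent.AdicJacLib.Gr
import Groth.Agent.S4537

/-!
# Adic formal smoothness through `J/J²` and the symmetric algebra
-/

set_option autoImplicit false

universe u

namespace AdicJacLib

open MvPolynomial (idealOfVars)

variable {A B : Type u} [CommRing A] [CommRing B] [Algebra A B] (J : Ideal B)

/-- Lifting through any surjection with nilpotent kernel. -/
theorem exists_lift_adic (h : CAlgX.IsAdicFormallySmooth A B J) {T S : Type u} [CommRing T]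
    [CommRing S] [Algebra A T] [Algebra A S] (f : T →ₐ[A] S) (hf : Function.Surjective f)
    (hnil : IsNilpotent (RingHom.ker f)) (ψ : B →ₐ[A] S)
    (hψ : ∃ k : ℕ, ∀ x ∈ J ^ k, ψ x = 0) : ∃ χ : B →ₐ[A] T, f.comp χ = ψ := by
  let e : (T ⧸ RingHom.ker f) ≃ₐ[A] S := Ideal.quotientKerAlgEquivOfSurjective hf
  obtain ⟨k, hk⟩ := hψ
  obtain ⟨v, hv⟩ := (Groth.Agent.S4537.result J).1 h T (RingHom.ker f) hnil ⟨1, by simp⟩
    (e.symm.toAlgHom.comp ψ) ⟨k, fun x hx => by
      show e.symm (ψ x) = 0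
      rw [hk x hx, map_zero]⟩
  refine ⟨v, AlgHom.ext fun b => ?_⟩
  have h1 : Ideal.Quotient.mk (RingHom.ker f) (v b) = e.symm (ψ b) := AlgHom.congr_fun hv b
  have h2 := congrArg e h1
  rw [AlgEquiv.apply_symm_apply] at h2
  exact h2

theorem isNilpotent_ker_factor {i n : ℕ} (hi : 1 ≤ i) (hn : i ≤ n) :
    IsNilpotent (RingHom.ker (Ideal.Quotient.factorₐ A (Ideal.pow_le_pow_right hn : J ^ n ≤ J ^ i))) := by
  refine ⟨n, ?_⟩
  have hker : RingHom.ker (Ideal.Quotient.factorₐ A (Ideal.pow_le_pow_right hn : J ^ n ≤ J ^ i)) ≤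
      J.map (Ideal.Quotient.mk (J ^ n)) := by
    intro x hx
    obtain ⟨x, rfl⟩ := Ideal.Quotient.mk_surjective x
    rw [RingHom.mem_ker, Ideal.Quotient.factorₐ_apply, Ideal.Quotient.factor_mk,
      Ideal.Quotient.eq_zero_iff_mem] at hx
    exact Ideal.mem_map_of_mem _ (Ideal.pow_le_self (by omega) hx)
  rw [Ideal.zero_eq_bot, eq_bot_iff]
  refine (Ideal.pow_right_mono hker n).trans ?_
  rw [← Ideal.map_pow, Ideal.map_quotient_self]

theorem mem_of_mk_mem_map_pow {n i : ℕ} (hi : i ≤ n) {x : B}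
    (h : Ideal.Quotient.mk (J ^ n) x ∈ (J.map (Ideal.Quotient.mk (J ^ n))) ^ i) : x ∈ J ^ i := by
  rw [← Ideal.map_pow, Ideal.mem_quotient_iff_mem_sup] at h
  exact (sup_le le_rfl (Ideal.pow_le_pow_right hi) : J ^ i ⊔ J ^ n ≤ J ^ i) h

theorem mk_mem_map_pow (n i : ℕ) {x : B} (h : x ∈ J ^ i) :
    Ideal.Quotient.mk (J ^ n) x ∈ (J.map (Ideal.Quotient.mk (J ^ n))) ^ i := by
  rw [← Ideal.map_pow]
  exact Ideal.mem_map_of_mem _ h

section Poly

variable {C : Type u} [CommRing C] {σ : Type u}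

theorem linForm_mem (c : σ →₀ C) : PP16Lib.linForm C σ c ∈ idealOfVars σ C := by
  rw [← pow_one (idealOfVars σ C), MvPolynomial.mem_pow_idealOfVars_iff]
  intro d hd
  exact ((PP16Lib.isHomogeneous_linForm c).degree_eq_sum_deg_support hd).le

theorem eq_zero_of_mem_pow {F : MvPolynomial σ C} {i : ℕ} (hF : F.IsHomogeneous i)
    (h : F ∈ idealOfVars σ C ^ (i + 1)) : F = 0 := by
  rw [MvPolynomial.mem_pow_idealOfVars_iff] at h
  rw [← MvPolynomial.support_eq_empty]
  by_contra hne
  obtain ⟨d, hd⟩ := Finset.nonempty_iff_ne_empty.2 hne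
  have h1 := h d hd
  have h2 : i = d.degree := hF.degree_eq_sum_deg_support hd
  omega

theorem mem_pow_of_isHomogeneous {F : MvPolynomial σ C} {i n : ℕ} (hF : F.IsHomogeneous i)
    (h : n ≤ i) : F ∈ idealOfVars σ C ^ n := by
  rw [MvPolynomial.mem_pow_idealOfVars_iff]
  intro d hd
  have h2 : i = d.degree := hF.degree_eq_sum_deg_support hd
  omega

end Poly

variable [Algebra.FormallySmooth A (B ⧸ J)]

/-- Formal smoothness of the quotient gives compatible sections to the infinitesimal neighbourhoods. -/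
theorem exists_section (n : ℕ) (hn : 1 ≤ n) :
    ∃ s : (B ⧸ J) →ₐ[A] B ⧸ J ^ n,
      ∀ c, Ideal.Quotient.factor (Ideal.pow_le_self (by omega) : J ^ n ≤ J) (s c) = c := by
  let f : (B ⧸ J ^ n) →ₐ[A] B ⧸ J :=
    Ideal.Quotient.factorₐ A (Ideal.pow_le_self (by omega) : J ^ n ≤ J)
  have hnil : IsNilpotent (RingHom.ker (f : (B ⧸ J ^ n) →+* B ⧸ J)) := by
    refine ⟨n, ?_⟩
    have hker : RingHom.ker (f : (B ⧸ J ^ n) →+* B ⧸ J) ≤ J.map (Ideal.Quotient.mk (J ^ n)) := by
      intro x hx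
      obtain ⟨x, rfl⟩ := Ideal.Quotient.mk_surjective x
      exact Ideal.mem_map_of_mem _ (Ideal.Quotient.eq_zero_iff_mem.1 hx)
    rw [Ideal.zero_eq_bot, eq_bot_iff]
    refine (Ideal.pow_right_mono hker n).trans ?_
    rw [← Ideal.map_pow, Ideal.map_quotient_self]
  have hf : Function.Surjective f := fun y => by
    obtain ⟨y, rfl⟩ := Ideal.Quotient.mk_surjective y
    exact ⟨Ideal.Quotient.mk (J ^ n) y, rfl⟩
  exact ⟨Algebra.FormallySmooth.liftOfSurjective (AlgHom.id A (B ⧸ J)) f hf hnil,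
    fun c => Algebra.FormallySmooth.liftOfSurjective_apply _ f hf hnil c⟩

/-- Projective `J/J²` and bijective `Sym → gr` give adic formal smoothness. -/
theorem isAdicFormallySmooth_of_projective [Module.Projective (B ⧸ J) J.Cotangent]
    (hgr : PP16.SymGrBijective B J) : CAlgX.IsAdicFormallySmooth A B J := by
  intro T _ _ I hI ψ hψ
  obtain ⟨k, hk⟩ := hψ
  let n := 2 * k + 2
  have hn1 : 1 ≤ n := by omega
  let R := B ⧸ J ^ n
  let 𝔪 : Ideal R := J.map (Ideal.Quotient.mk (J ^ n))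
  have hlen : J ^ n ≤ J := Ideal.pow_le_self (by omega)
  obtain ⟨s, hs⟩ := exists_section (A := A) J n hn1
  have hsC : ∀ b, s (Ideal.Quotient.mk J b) - Ideal.Quotient.mk (J ^ n) b ∈ 𝔪 := by
    intro b
    obtain ⟨y, hy⟩ := Ideal.Quotient.mk_surjective (s (Ideal.Quotient.mk J b))
    have h1 := hs (Ideal.Quotient.mk J b)
    rw [← hy, Ideal.Quotient.factor_mk, Ideal.Quotient.eq] at h1
    rw [← hy, ← map_sub]
    exact Ideal.mem_map_of_mem _ h1
  -- a linear lift `J/J² → J/Jⁿ`
  letI : Module (B ⧸ J) 𝔪 := Module.compHom 𝔪 (s : (B ⧸ J) →+* R)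
  have hproj : ∃ σ₀ : J.Cotangent →ₗ[B ⧸ J] 𝔪,
      ∀ z : J, (σ₀ (J.toCotangent z) : R) - Ideal.Quotient.mk (J ^ n) z ∈ 𝔪 ^ 2 := by
    have hex : ∀ y : 𝔪, ∃ w : J, Ideal.Quotient.mk (J ^ n) (w : B) = y := fun y => by
      obtain ⟨w, hw, hwy⟩ := (Ideal.mem_map_iff_of_surjective _ Ideal.Quotient.mk_surjective).1 y.2
      exact ⟨⟨w, hw⟩, hwy⟩
    choose w hw using hex
    have hwd : ∀ z z' : J, Ideal.Quotient.mk (J ^ n) (z : B) - Ideal.Quotient.mk (J ^ n) z' ∈ 𝔪 ^ 2 →
        J.toCotangent z = J.toCotangent z' := by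
      intro z z' h
      rw [← map_sub] at h
      exact J.toCotangent_eq.2 (mem_of_mk_mem_map_pow J (by omega) h)
    let π : 𝔪 →ₗ[B ⧸ J] J.Cotangent :=
      { toFun := fun y => J.toCotangent (w y)
        map_add' := fun y y' => by
          rw [← map_add]
          refine hwd _ _ ?_
          rw [hw, Submodule.coe_add, Submodule.coe_add, map_add, hw, hw, sub_self]
          exact zero_mem _
        map_smul' := fun c y => by
          obtain ⟨b, rfl⟩ := Ideal.Quotient.mk_surjective c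
          rw [RingHom.id_apply]
          conv_rhs => rw [← Ideal.Quotient.algebraMap_eq, algebraMap_smul, ← map_smul]
          refine hwd _ _ ?_
          rw [hw]
          show s (Ideal.Quotient.mk J b) * (y : R) - Ideal.Quotient.mk (J ^ n) (b * (w y : B)) ∈ _
          rw [map_mul, hw]
          rw [← sub_mul, pow_two]
          exact Ideal.mul_mem_mul (hsC b) y.2 }
    have hπ : Function.Surjective π := fun c => by
      obtain ⟨z, rfl⟩ := J.toCotangent_surjective c
      refine ⟨⟨_, Ideal.mem_map_of_mem _ z.2⟩, hwd _ _ ?_⟩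
      rw [hw, sub_self]
      exact zero_mem _
    obtain ⟨σ₀, hσ₀⟩ := Module.projective_lifting_property π LinearMap.id hπ
    refine ⟨σ₀, fun z => ?_⟩
    have h1 : J.toCotangent (w (σ₀ (J.toCotangent z))) = J.toCotangent z :=
      LinearMap.congr_fun hσ₀ (J.toCotangent z)
    rw [← hw (σ₀ (J.toCotangent z)), ← map_sub]
    exact mk_mem_map_pow J n 2 (J.toCotangent_eq.1 h1)
  obtain ⟨σ₀, hσ₀⟩ := hproj
  -- polynomial model
  obtain ⟨j, q, hq⟩ := PP16Lib.exists_coords (R := B ⧸ J) (M := J.Cotangent)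
  let τ : J.Cotangent → R := fun p => (σ₀ p : R)
  let Φ : MvPolynomial J.Cotangent (B ⧸ J) →+* R :=
    MvPolynomial.eval₂Hom (s : (B ⧸ J) →+* R) (fun p => τ (q (Finsupp.single p 1)))
  have hτq : ∀ c, Φ (PP16Lib.linForm (B ⧸ J) J.Cotangent c) = τ (q c) := by
    intro c
    induction c using Finsupp.induction_linear with
    | zero => simp [τ]
    | add a b ha hb =>
      rw [map_add, map_add, ha, hb, map_add]
      simp [τ]
    | single a r =>
      rw [show Finsupp.single a r = r • Finsupp.single a (1 : B ⧸ J) by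
        rw [Finsupp.smul_single, smul_eq_mul, mul_one],
        map_smul (PP16Lib.linForm (B ⧸ J) J.Cotangent), map_smul q,
        PP16Lib.linForm_single, MvPolynomial.smul_eq_C_mul, map_mul]
      show Φ (MvPolynomial.C r) * Φ (MvPolynomial.X a) = (σ₀ (r • q (Finsupp.single a 1)) : R)
      rw [map_smul σ₀, MvPolynomial.eval₂Hom_C, MvPolynomial.eval₂Hom_X']
      rfl
  let πm : MvPolynomial J.Cotangent (B ⧸ J) →ₐ[B ⧸ J] MvPolynomial J.Cotangent (B ⧸ J) :=
    MvPolynomial.aeval
      (fun p => PP16Lib.linForm (B ⧸ J) J.Cotangent (j (q (Finsupp.single p 1))))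
  have hΦπ : ∀ F, Φ (πm F) = Φ F := fun F => by
    have : Φ.comp πm.toRingHom = Φ := by
      refine MvPolynomial.ringHom_ext (fun c => ?_) (fun p => ?_)
      · show Φ (πm (MvPolynomial.C c)) = _
        simp [πm]
      · show Φ (πm (MvPolynomial.X p)) = _
        simp only [πm, MvPolynomial.aeval_X]
        rw [hτq, hq, MvPolynomial.eval₂Hom_X']
    exact RingHom.congr_fun this F
  have hΦmk : ∀ c, Φ (MvPolynomial.C c) = s c := fun c => MvPolynomial.eval₂Hom_C _ _ _
  have hΦC : ∀ b, Φ (MvPolynomial.C (Ideal.Quotient.mk J b)) - Ideal.Quotient.mk (J ^ n) b ∈ 𝔪 :=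
    fun b => by rw [hΦmk]; exact hsC b
  have hΦX : ∀ z : J, Φ (PP16Lib.linForm (B ⧸ J) J.Cotangent (j (J.toCotangent z))) -
      Ideal.Quotient.mk (J ^ n) z ∈ 𝔪 ^ 2 := fun z => by rw [hτq, hq]; exact hσ₀ z
  have hJ𝔪 : ∀ z ∈ J, Ideal.Quotient.mk (J ^ n) z ∈ 𝔪 := fun z hz => Ideal.mem_map_of_mem _ hz
  have hΦm : ∀ G ∈ idealOfVars J.Cotangent (B ⧸ J), Φ G ∈ 𝔪 := by
    intro G hG
    induction hG using Submodule.span_induction with
    | mem x hx =>
      obtain ⟨p, rfl⟩ := hx
      rw [MvPolynomial.eval₂Hom_X']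
      exact (σ₀ _).2
    | zero => rw [map_zero]; exact zero_mem _
    | add x y _ _ hx hy => rw [map_add]; exact add_mem hx hy
    | smul c x _ hx => rw [smul_eq_mul, map_mul]; exact Ideal.mul_mem_left _ _ hx
  have hΦpow : ∀ i, ∀ G ∈ idealOfVars J.Cotangent (B ⧸ J) ^ i, Φ G ∈ 𝔪 ^ i := fun i G hG =>
    Ideal.pow_right_mono (Ideal.map_le_iff_le_comap.2 hΦm) i
      (Ideal.map_pow Φ _ i ▸ Ideal.mem_map_of_mem Φ hG)
  -- surjectivity
  have hsurj : Function.Surjective Φ := by
    have hgen : ∀ i, ∀ x ∈ J ^ i, ∃ F, Φ F - Ideal.Quotient.mk (J ^ n) x ∈ 𝔪 ^ (i + 1) := by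
      intro i x hx
      induction mem_span_prod J i x hx using Submodule.span_induction with
      | mem y hy =>
        obtain ⟨z, rfl⟩ := hy
        refine ⟨∏ k, PP16Lib.linForm (B ⧸ J) J.Cotangent (j (J.toCotangent (z k))), ?_⟩
        rw [map_prod, map_prod]
        have h1 := prod_sub_prod_mem 𝔪 Finset.univ
          (fun k => Φ (PP16Lib.linForm (B ⧸ J) J.Cotangent (j (J.toCotangent (z k)))))
          (fun k => Ideal.Quotient.mk (J ^ n) (z k : B)) (fun k _ => hJ𝔪 _ (z k).2) fun k _ => hΦX (z k)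
        simpa using h1
      | zero => exact ⟨0, by simp⟩
      | add y y' hy0 hy0' hy hy' =>
        have hspan : ∀ w ∈ Submodule.span B (Set.range fun z : Fin i → J => ∏ k, (z k : B)),
            w ∈ J ^ i := fun w hw => by
          refine (Submodule.span_le.2 ?_) hw
          rintro _ ⟨z, rfl⟩
          simpa using prod_coe_mem J z
        obtain ⟨F, hF⟩ := hy (hspan _ hy0)
        obtain ⟨G, hG⟩ := hy' (hspan _ hy0')
        exact ⟨F + G, by rw [map_add, map_add, add_sub_add_comm]; exact add_mem hF hG⟩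
      | smul c y hy0 hy =>
        have hy' : y ∈ J ^ i := by
          refine (Submodule.span_le.2 ?_) hy0
          rintro _ ⟨z, rfl⟩
          simpa using prod_coe_mem J z
        obtain ⟨F, hF⟩ := hy hy'
        refine ⟨MvPolynomial.C (Ideal.Quotient.mk J c) * F, ?_⟩
        rw [smul_eq_mul, map_mul, map_mul]
        have hmem : Φ F ∈ 𝔪 ^ i := by
          have h5 := add_mem (Ideal.pow_le_pow_right (Nat.le_succ _) hF) (mk_mem_map_pow J n i hy')
          rwa [sub_add_cancel] at h5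
        rw [show Φ (MvPolynomial.C (Ideal.Quotient.mk J c)) * Φ F -
            Ideal.Quotient.mk (J ^ n) c * Ideal.Quotient.mk (J ^ n) y =
          (Φ (MvPolynomial.C (Ideal.Quotient.mk J c)) - Ideal.Quotient.mk (J ^ n) c) * Φ F +
            Ideal.Quotient.mk (J ^ n) c * (Φ F - Ideal.Quotient.mk (J ^ n) y) by ring]
        refine add_mem ?_ (Ideal.mul_mem_left _ _ hF)
        rw [pow_succ' 𝔪 i]
        exact Ideal.mul_mem_mul (hΦC c) hmem
    have hdesc : ∀ d i, i + d = n → ∀ r ∈ 𝔪 ^ i, ∃ F, Φ F = r := by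
      intro d
      induction d with
      | zero =>
        intro i hi r hr
        have h0 : 𝔪 ^ i = ⊥ := by
          rw [show i = n by omega, ← Ideal.map_pow, Ideal.map_quotient_self]
        rw [h0, Ideal.mem_bot] at hr
        exact ⟨0, by rw [map_zero, hr]⟩
      | succ d ih =>
        intro i hi r hr
        obtain ⟨x, rfl⟩ := Ideal.Quotient.mk_surjective r
        obtain ⟨F, hF⟩ := hgen i x (mem_of_mk_mem_map_pow J (by omega) hr)
        obtain ⟨G, hG⟩ := ih (i + 1) (by omega) _ hF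
        exact ⟨F - G, by rw [map_sub, hG, sub_sub_cancel]⟩
    exact fun r => hdesc n 0 (by omega) r (by rw [pow_zero, Ideal.one_eq_top]; trivial)
  -- injectivity modulo degrees `≥ n`
  have hkey : ∀ i < n, ∀ F : MvPolynomial J.Cotangent (B ⧸ J), F.IsHomogeneous i →
      Φ F ∈ 𝔪 ^ (i + 1) → πm F = 0 := by
    intro i hin F hF hmem
    rcases Nat.eq_zero_or_pos i with rfl | hi
    · obtain ⟨c, rfl⟩ : ∃ c, F = MvPolynomial.C c :=
        ⟨F.coeff 0, MvPolynomial.totalDegree_eq_zero_iff_eq_C.1 (by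
          rcases eq_or_ne F 0 with rfl | hne
          · simp
          · exact hF.totalDegree hne)⟩
      rw [hΦmk, zero_add, pow_one] at hmem
      obtain ⟨x, hx, hxs⟩ := (Ideal.mem_map_iff_of_surjective _ Ideal.Quotient.mk_surjective).1 hmem
      have h1 := hs c
      rw [← hxs, Ideal.Quotient.factor_mk, Ideal.Quotient.eq_zero_iff_mem.2 hx] at h1
      rw [← h1, map_zero, map_zero]
    · obtain ⟨t, ht⟩ := exists_polyB_eq J j q hF
      obtain ⟨x, hx, h1, h2⟩ := gr_compat J j 𝔪 (Ideal.Quotient.mk (J ^ n)) Φ hJ𝔪 hΦC hΦX t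
      have ht' : polyB J j _ t = πm F := ht
      rw [ht', hΦπ] at h2
      have hcard : Fintype.card (ULift.{u} (Fin i)) = i := by simp
      have hx' : Ideal.Quotient.mk (J ^ n) x ∈ 𝔪 ^ (i + 1) := by
        rw [hcard] at h2
        simpa using sub_mem hmem h2
      have hne : Nonempty (ULift.{u} (Fin i)) := ⟨⟨⟨0, hi⟩⟩⟩
      have h0 : t = 0 := (symGrBijective_iff J |>.1 hgr (ULift.{u} (Fin i))).1 (by
        rw [map_zero, h1, gcl_eq_zero, hcard]
        exact mem_of_mk_mem_map_pow J (by omega) hx')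
      rw [← ht', h0, map_zero]
  have hkerπ : ∀ F, Φ F = 0 → πm F ∈ idealOfVars J.Cotangent (B ⧸ J) ^ n := by
    intro F hF
    classical
    let comp := fun i => MvPolynomial.homogeneousComponent i F
    have hsum : ∀ m, F.totalDegree < m → ∑ i ∈ Finset.range m, comp i = F := fun m hm => by
      conv_rhs => rw [← MvPolynomial.sum_homogeneousComponent F]
      refine (Finset.sum_subset (Finset.range_mono (by omega)) fun i _ hi => ?_).symm
      exact MvPolynomial.homogeneousComponent_eq_zero _ _ (by simpa using hi)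
    have hlow : ∀ i < n, πm (comp i) = 0 := by
      intro i
      induction i using Nat.strong_induction_on with
      | _ i ih =>
        intro hin
        refine hkey i hin _ (MvPolynomial.homogeneousComponent_isHomogeneous i F) ?_
        let m := max (F.totalDegree + 1) (i + 1)
        have h1 : ∑ l ∈ Finset.range m, Φ (comp l) = 0 := by
          rw [← map_sum, hsum m (by omega), hF]
        have hmem : ∀ l ∈ (Finset.range m).erase i, Φ (comp l) ∈ 𝔪 ^ (i + 1) := by
          intro l hl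
          rcases Nat.lt_or_ge l i with hli | hli
          · rw [← hΦπ, ih l hli (by omega), map_zero]
            exact zero_mem _
          · refine hΦpow _ _ (mem_pow_of_isHomogeneous
              (MvPolynomial.homogeneousComponent_isHomogeneous l F) ?_)
            have := Finset.ne_of_mem_erase hl
            omega
        rw [← Finset.add_sum_erase _ _ (show i ∈ Finset.range m from Finset.mem_range.2 (by omega)),
          add_eq_zero_iff_eq_neg] at h1
        rw [h1]
        exact neg_mem (Submodule.sum_mem _ hmem)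
    rw [← hsum (F.totalDegree + 1) (by omega), map_sum]
    refine Submodule.sum_mem _ fun i _ => ?_
    rcases Nat.lt_or_ge i n with hin | hin
    · rw [hlow i hin]; exact zero_mem _
    · refine mem_pow_of_isHomogeneous ?_ hin
      have h1 := (MvPolynomial.homogeneousComponent_isHomogeneous i F).aeval
        (fun p => PP16Lib.linForm (B ⧸ J) J.Cotangent (j (q (Finsupp.single p 1))))
        (fun p => PP16Lib.isHomogeneous_linForm _)
      rwa [one_mul] at h1
  -- the lift
  have hψn : ∀ x ∈ J ^ n, ψ x = 0 := fun x hx => hk x (Ideal.pow_le_pow_right (by omega) hx)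
  let ψn : R →ₐ[A] T ⧸ I := Ideal.Quotient.liftₐ (J ^ n) ψ hψn
  have hψnmk : ∀ b, ψn (Ideal.Quotient.mk (J ^ n) b) = ψ b := fun b =>
    Ideal.Quotient.liftₐ_apply _ _ _ _
  have hInil : IsNilpotent (RingHom.ker (Ideal.Quotient.mkₐ A I : T →+* T ⧸ I)) := by
    refine ⟨2, ?_⟩
    rw [show RingHom.ker (Ideal.Quotient.mkₐ A I : T →+* T ⧸ I) = I from Ideal.mk_ker, hI]
    rfl
  let χC : (B ⧸ J) →ₐ[A] T := Algebra.FormallySmooth.liftOfSurjective (ψn.comp s)
    (Ideal.Quotient.mkₐ A I) Ideal.Quotient.mk_surjective hInil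
  have hχC : ∀ c, Ideal.Quotient.mk I (χC c) = ψn (s c) := fun c =>
    Algebra.FormallySmooth.liftOfSurjective_apply _ (Ideal.Quotient.mkₐ A I) _ _ c
  letI : Module (B ⧸ J) T := Module.compHom T (χC : (B ⧸ J) →+* T)
  letI : Module (B ⧸ J) (T ⧸ I) := Module.compHom (T ⧸ I) ((ψn.comp s : (B ⧸ J) →ₐ[A] T ⧸ I) : (B ⧸ J) →+* T ⧸ I)
  let mkI : T →ₗ[B ⧸ J] T ⧸ I :=
    { toFun := Ideal.Quotient.mk I
      map_add' := map_add _
      map_smul' := fun c t => by
        show Ideal.Quotient.mk I (χC c * t) = ψn (s c) * Ideal.Quotient.mk I t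
        rw [map_mul, hχC] }
  let f₀ : J.Cotangent →ₗ[B ⧸ J] T ⧸ I :=
    { toFun := fun p => ψn (σ₀ p : R)
      map_add' := fun p p' => by simp
      map_smul' := fun c p => by
        rw [map_smul σ₀]
        show ψn (s c * (σ₀ p : R)) = ψn (s c) * ψn (σ₀ p : R)
        rw [map_mul] }
  obtain ⟨θ, hθ⟩ := Module.projective_lifting_property mkI f₀ Ideal.Quotient.mk_surjective
  have hθ' : ∀ p, Ideal.Quotient.mk I (θ p) = ψn (σ₀ p : R) := fun p => LinearMap.congr_fun hθ p
  let χ' : MvPolynomial J.Cotangent (B ⧸ J) →+* T :=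
    MvPolynomial.eval₂Hom (χC : (B ⧸ J) →+* T) (fun p => θ (q (Finsupp.single p 1)))
  have hθq : ∀ c, χ' (PP16Lib.linForm (B ⧸ J) J.Cotangent c) = θ (q c) := by
    intro c
    induction c using Finsupp.induction_linear with
    | zero => simp
    | add a b ha hb => rw [map_add, map_add, ha, hb, map_add, map_add]
    | single a r =>
      rw [show Finsupp.single a r = r • Finsupp.single a (1 : B ⧸ J) by
        rw [Finsupp.smul_single, smul_eq_mul, mul_one],
        map_smul (PP16Lib.linForm (B ⧸ J) J.Cotangent), map_smul q,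
        PP16Lib.linForm_single, MvPolynomial.smul_eq_C_mul, map_mul, map_smul θ,
        MvPolynomial.eval₂Hom_C, MvPolynomial.eval₂Hom_X']
      rfl
  have hχπ : ∀ F, χ' (πm F) = χ' F := fun F => by
    have : χ'.comp πm.toRingHom = χ' := by
      refine MvPolynomial.ringHom_ext (fun c => ?_) (fun p => ?_)
      · show χ' (πm (MvPolynomial.C c)) = _
        simp [πm]
      · show χ' (πm (MvPolynomial.X p)) = _
        simp only [πm, MvPolynomial.aeval_X]
        rw [hθq, hq, MvPolynomial.eval₂Hom_X']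
    exact RingHom.congr_fun this F
  have hmk : ∀ F, Ideal.Quotient.mk I (χ' F) = ψn (Φ F) := fun F => by
    have : (Ideal.Quotient.mk I).comp χ' = (ψn : R →+* T ⧸ I).comp Φ := by
      refine MvPolynomial.ringHom_ext (fun c => ?_) (fun p => ?_)
      · simp [χ', Φ, hχC]
      · simp [χ', Φ, τ, hθ']
    exact RingHom.congr_fun this F
  have hχn : ∀ G ∈ idealOfVars J.Cotangent (B ⧸ J) ^ n, χ' G = 0 := by
    intro G hG
    have h2k : idealOfVars J.Cotangent (B ⧸ J) ^ k ≤ I.comap χ' := fun F hF => by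
      rw [Ideal.mem_comap, ← Ideal.Quotient.eq_zero_iff_mem, hmk]
      obtain ⟨x, hx⟩ := Ideal.Quotient.mk_surjective (Φ F)
      rw [← hx, hψnmk]
      refine hk x (mem_of_mk_mem_map_pow J (show k ≤ n by omega) ?_)
      rw [hx]
      exact hΦpow k F hF
    have h3 : χ' G ∈ I ^ 2 := by
      refine Ideal.pow_right_mono (Ideal.map_le_iff_le_comap.2 h2k) 2 ?_
      rw [← Ideal.map_pow, ← pow_mul]
      exact Ideal.mem_map_of_mem _ (Ideal.pow_le_pow_right (show k * 2 ≤ n by omega) hG)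
    rwa [hI, Ideal.mem_bot] at h3
  have hker : RingHom.ker Φ ≤ RingHom.ker χ' := fun F hF => by
    rw [RingHom.mem_ker, ← hχπ, hχn _ (hkerπ F hF)]
  let χR : R →+* T := RingHom.liftOfRightInverse Φ (Function.surjInv hsurj)
    (Function.rightInverse_surjInv hsurj) ⟨χ', hker⟩
  have hχR : ∀ F, χR (Φ F) = χ' F := fun F =>
    RingHom.liftOfRightInverse_comp_apply Φ _ (Function.rightInverse_surjInv hsurj) ⟨χ', hker⟩ F
  refine ⟨{ toRingHom := χR.comp (Ideal.Quotient.mk (J ^ n)), commutes' := fun a => ?_ }, ?_⟩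
  · have h1 : Ideal.Quotient.mk (J ^ n) (algebraMap A B a) =
        Φ (MvPolynomial.C (algebraMap A (B ⧸ J) a)) := by
      rw [hΦmk, AlgHom.commutes]
      rfl
    show χR (Ideal.Quotient.mk (J ^ n) (algebraMap A B a)) = algebraMap A T a
    rw [h1, hχR]
    simp [χ']
  · ext b
    obtain ⟨F, hF⟩ := hsurj (Ideal.Quotient.mk (J ^ n) b)
    show Ideal.Quotient.mk I (χR (Ideal.Quotient.mk (J ^ n) b)) = ψ b
    rw [← hF, hχR, hmk, hF, hψnmk]

end AdicJacLib
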