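import Mathlib
import Groth.Agent.AdicJacLib.Smooth

/-!
# Consequences of adic formal smoothness for `J/J²` and `Sym → gr`
-/

set_option autoImplicit false

universe u

namespace AdicJacLib

open MvPolynomial (idealOfVars)

variable {A B : Type u} [CommRing A] [CommRing B] [Algebra A B] (J : Ideal B)

theorem mk_mem_map_idealOfVars {C σ : Type u} [CommRing C] (n i : ℕ) {F : MvPolynomial σ C}
    (h : F ∈ idealOfVars σ C ^ i) :
    Ideal.Quotient.mk (idealOfVars σ C ^ n) F ∈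
      (idealOfVars σ C).map (Ideal.Quotient.mk (idealOfVars σ C ^ n)) ^ i := by
  rw [← Ideal.map_pow]
  exact Ideal.mem_map_of_mem _ h

theorem coeff_single_of_linForm {C σ : Type u} [CommRing C] (c : σ →₀ C) (p : σ) :
    (PP16Lib.linForm C σ c).coeff (Finsupp.single p 1) = c p := by
  classical
  induction c using Finsupp.induction_linear with
  | zero => simp
  | add a b ha hb => rw [map_add, MvPolynomial.coeff_add, ha, hb, Finsupp.add_apply]
  | single a r =>
    simp [PP16Lib.linForm, MvPolynomial.coeff_X', Finsupp.single_apply, Finsupp.single_eq_single_iff]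

/-- A polynomial of the maximal ideal agrees with its linear part modulo the square. -/
theorem exists_linForm_sub_mem {C σ : Type u} [CommRing C] {F : MvPolynomial σ C}
    (hF : F ∈ idealOfVars σ C) : ∃ c, F - PP16Lib.linForm C σ c ∈ idealOfVars σ C ^ 2 := by
  induction hF using Submodule.span_induction with
  | mem x hx =>
    obtain ⟨p, rfl⟩ := hx
    exact ⟨Finsupp.single p 1, by rw [PP16Lib.linForm_single, sub_self]; exact zero_mem _⟩
  | zero => exact ⟨0, by simp⟩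
  | add x y _ _ hx hy =>
    obtain ⟨a, ha⟩ := hx
    obtain ⟨b, hb⟩ := hy
    exact ⟨a + b, by rw [map_add, add_sub_add_comm]; exact add_mem ha hb⟩
  | smul G x _ hx =>
    obtain ⟨a, ha⟩ := hx
    refine ⟨G.coeff 0 • a, ?_⟩
    have hG : G - MvPolynomial.C (G.coeff 0) ∈ idealOfVars σ C := by
      rw [← pow_one (idealOfVars σ C), MvPolynomial.mem_pow_idealOfVars_iff']
      intro d hd
      rw [show d = 0 from (Finsupp.degree_eq_zero_iff d).1 (by omega)]
      simp
    rw [smul_eq_mul, map_smul, MvPolynomial.smul_eq_C_mul,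
      show G * x - MvPolynomial.C (G.coeff 0) * PP16Lib.linForm C σ a =
        (G - MvPolynomial.C (G.coeff 0)) * PP16Lib.linForm C σ a + G * (x - PP16Lib.linForm C σ a) by ring]
    refine add_mem ?_ (Ideal.mul_mem_left _ _ ha)
    rw [pow_two]
    exact Ideal.mul_mem_mul hG (linForm_mem a)

theorem map_quot_pow {R : Type*} [CommRing R] (I : Ideal R) (n : ℕ) :
    (I.map (Ideal.Quotient.mk (I ^ n))) ^ n = ⊥ := by
  rw [← Ideal.map_pow, Ideal.map_quotient_self]

theorem mem_map_pow_of_factor {R : Type*} [CommRing R] (I : Ideal R) {n i : ℕ} (hn : 2 ≤ n)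
    (hi : i ≤ 2) {x : R ⧸ I ^ n}
    (hx : Ideal.Quotient.factor (Ideal.pow_le_pow_right hn : I ^ n ≤ I ^ 2) x ∈
      (I.map (Ideal.Quotient.mk (I ^ 2))) ^ i) :
    x ∈ (I.map (Ideal.Quotient.mk (I ^ n))) ^ i := by
  obtain ⟨F, rfl⟩ := Ideal.Quotient.mk_surjective x
  rw [Ideal.Quotient.factor_mk, ← Ideal.map_pow, Ideal.mem_quotient_iff_mem_sup,
    sup_eq_left.2 (Ideal.pow_le_pow_right hi)] at hx
  rw [← Ideal.map_pow]
  exact Ideal.mem_map_of_mem _ hx

theorem isNilpotent_ker_of_le {R S : Type*} [CommRing R] [CommRing S] (f : R →+* S) (I : Ideal R)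
    (h : ∀ x, f x = 0 → x ∈ I) {n : ℕ} (hn : I ^ n = ⊥) : IsNilpotent (RingHom.ker f) :=
  ⟨n, eq_bot_iff.2 ((Ideal.pow_right_mono (fun _ hx => h _ hx) n).trans hn.le)⟩

theorem apply_mem_pow {R S F : Type*} [CommRing R] [CommRing S] [FunLike F R S] [RingHomClass F R S]
    (f : F) {I : Ideal R} {K : Ideal S} (h : ∀ x ∈ I, f x ∈ K) {n : ℕ} {x : R} (hx : x ∈ I ^ n) :
    f x ∈ K ^ n :=
  Ideal.pow_right_mono (Ideal.map_le_iff_le_comap.2 h) n
    (Ideal.map_pow (f : R →+* S) I n ▸ Ideal.mem_map_of_mem (f : R →+* S) hx)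

/-- Models of the truncated polynomial rings. -/
theorem exists_model (A : Type u) {C σ : Type u} [CommRing A] [CommRing C] [Algebra A C] (n : ℕ) :
    ∃ (T : Type u) (_ : CommRing T) (_ : Algebra A T) (π : MvPolynomial σ C →ₐ[A] T),
      Function.Surjective π ∧ ∀ F, π F = 0 ↔ F ∈ idealOfVars σ C ^ n :=
  ⟨_, inferInstance, inferInstance, Ideal.Quotient.mkₐ A (idealOfVars σ C ^ n),
    Ideal.Quotient.mk_surjective, fun _ => Ideal.Quotient.eq_zero_iff_mem⟩

variable [Algebra.FormallySmooth A (B ⧸ J)]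

/-- Adic formal smoothness provides projected coordinates on `J/J²` realised by a map of `B` to a
model `T` of the polynomials modulo the square of the variables. -/
theorem exists_coords_of_adic (h : CAlgX.IsAdicFormallySmooth A B J) {T : Type u} [CommRing T]
    [Algebra A T] (π : MvPolynomial J.Cotangent (B ⧸ J) →ₐ[A] T) (hπ : Function.Surjective π)
    (hπk : ∀ F, π F = 0 ↔ F ∈ idealOfVars J.Cotangent (B ⧸ J) ^ 2) :
    ∃ (j : J.Cotangent →ₗ[B ⧸ J] J.Cotangent →₀ (B ⧸ J))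
      (q : (J.Cotangent →₀ (B ⧸ J)) →ₗ[B ⧸ J] J.Cotangent) (χ : B →ₐ[A] T),
      (∀ x, q (j x) = x) ∧
      (∀ b, π (MvPolynomial.C (Ideal.Quotient.mk J b)) - χ b ∈
        (idealOfVars J.Cotangent (B ⧸ J)).map π) ∧
      ∀ z : J, χ z = π (PP16Lib.linForm (B ⧸ J) J.Cotangent (j (J.toCotangent z))) := by
  classical
  obtain ⟨s, hs⟩ := exists_section (A := A) J 2 (by omega)
  have hsC : ∀ b, ∃ y ∈ J, s (Ideal.Quotient.mk J b) = Ideal.Quotient.mk (J ^ 2) (b + y) := by
    intro b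
    obtain ⟨y, hy⟩ := Ideal.Quotient.mk_surjective (s (Ideal.Quotient.mk J b))
    have h1 := hs (Ideal.Quotient.mk J b)
    rw [← hy, Ideal.Quotient.factor_mk, Ideal.Quotient.eq] at h1
    exact ⟨y - b, h1, by rw [add_sub_cancel]; exact hy.symm⟩
  let q : (J.Cotangent →₀ (B ⧸ J)) →ₗ[B ⧸ J] J.Cotangent := Finsupp.linearCombination (B ⧸ J) id
  let τ : J.Cotangent → B ⧸ J ^ 2 := fun p => Ideal.Quotient.mk (J ^ 2) (rep J p)
  have hτ : ∀ z : J, τ (J.toCotangent z) = Ideal.Quotient.mk (J ^ 2) (z : B) := fun z =>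
    (Ideal.Quotient.eq (I := J ^ 2)).2 (J.toCotangent_eq.1 (toCotangent_rep J (J.toCotangent z)))
  have hτadd : ∀ p p', τ (p + p') = τ p + τ p' := fun p p' => by
    obtain ⟨z, rfl⟩ := J.toCotangent_surjective p
    obtain ⟨z', rfl⟩ := J.toCotangent_surjective p'
    rw [← map_add, hτ, hτ, hτ, Submodule.coe_add, map_add]
  have hτsmul : ∀ (c : B ⧸ J) p, τ (c • p) = s c * τ p := fun c p => by
    obtain ⟨z, rfl⟩ := J.toCotangent_surjective p
    obtain ⟨b, rfl⟩ := Ideal.Quotient.mk_surjective c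
    obtain ⟨y, hy, hby⟩ := hsC b
    rw [hby, ← Ideal.Quotient.algebraMap_eq J, algebraMap_smul, ← map_smul, hτ, hτ, ← map_mul,
      Submodule.coe_smul, smul_eq_mul, Ideal.Quotient.eq, add_mul, sub_add_cancel_left, neg_mem_iff,
      pow_two]
    exact Ideal.mul_mem_mul hy z.2
  let Φ : MvPolynomial J.Cotangent (B ⧸ J) →ₐ[A] B ⧸ J ^ 2 :=
    { MvPolynomial.eval₂Hom (s : (B ⧸ J) →+* B ⧸ J ^ 2) (fun p => τ (q (Finsupp.single p 1))) with
      commutes' := fun a => by
        show MvPolynomial.eval₂Hom _ _ (MvPolynomial.C (algebraMap A (B ⧸ J) a)) = _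
        rw [MvPolynomial.eval₂Hom_C]
        exact s.commutes a }
  have hΦC : ∀ c, Φ (MvPolynomial.C c) = s c := fun c => MvPolynomial.eval₂Hom_C _ _ _
  have hΦl : ∀ c, Φ (PP16Lib.linForm (B ⧸ J) J.Cotangent c) = τ (q c) := by
    intro c
    induction c using Finsupp.induction_linear with
    | zero =>
      simp only [map_zero]
      have h0 := hτadd 0 0
      rw [add_zero, left_eq_add] at h0
      exact h0.symm
    | add a b ha hb => rw [map_add, map_add, ha, hb, map_add, hτadd]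
    | single a r =>
      rw [show Finsupp.single a r = r • Finsupp.single a (1 : B ⧸ J) by
        rw [Finsupp.smul_single, smul_eq_mul, mul_one],
        map_smul (PP16Lib.linForm (B ⧸ J) J.Cotangent), map_smul q, hτsmul, PP16Lib.linForm_single,
        MvPolynomial.smul_eq_C_mul, map_mul, hΦC]
      congr 1
      exact MvPolynomial.eval₂Hom_X' _ _ _
  have hΦm : ∀ F ∈ idealOfVars J.Cotangent (B ⧸ J), Φ F ∈ J.map (Ideal.Quotient.mk (J ^ 2)) := by
    intro F hF
    induction hF using Submodule.span_induction with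
    | mem x hx =>
      obtain ⟨p, rfl⟩ := hx
      rw [← PP16Lib.linForm_single, hΦl]
      exact Ideal.mem_map_of_mem _ (rep J _).2
    | zero => rw [map_zero]; exact zero_mem _
    | add x y _ _ hx hy => rw [map_add]; exact add_mem hx hy
    | smul G x _ hx => rw [smul_eq_mul, map_mul]; exact Ideal.mul_mem_left _ _ hx
  have hker2 : RingHom.ker π.toRingHom ≤ RingHom.ker Φ.toRingHom := fun F hF =>
    Ideal.mem_bot.1 ((map_quot_pow J 2).le (apply_mem_pow Φ hΦm ((hπk F).1 hF)))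
  let Φ₂ : T →ₐ[A] B ⧸ J ^ 2 := AlgHom.liftOfSurjective π hπ Φ hker2
  have hΦ₂ : ∀ F, Φ₂ (π F) = Φ F := fun F => AlgHom.liftOfSurjective_apply _ _ _ _ _
  let m : Ideal T := (idealOfVars J.Cotangent (B ⧸ J)).map π
  have hm2 : m ^ 2 = ⊥ := by
    rw [← Ideal.map_pow, Ideal.map_eq_bot_iff_le_ker]
    exact fun F hF => (hπk F).2 hF
  have hlow : ∀ F : MvPolynomial J.Cotangent (B ⧸ J),
      F - MvPolynomial.C (F.coeff 0) ∈ idealOfVars J.Cotangent (B ⧸ J) := fun F => by
    rw [← pow_one (idealOfVars J.Cotangent (B ⧸ J)), MvPolynomial.mem_pow_idealOfVars_iff']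
    intro d hd
    rw [show d = 0 from (Finsupp.degree_eq_zero_iff d).1 (by omega)]
    simp
  have hfac : ∀ F : MvPolynomial J.Cotangent (B ⧸ J),
      Ideal.Quotient.factor (Ideal.pow_le_self (two_ne_zero) : J ^ 2 ≤ J) (Φ F) = F.coeff 0 := by
    intro F
    obtain ⟨x, hx, hxe⟩ :=
      (Ideal.mem_map_iff_of_surjective _ Ideal.Quotient.mk_surjective).1 (hΦm _ (hlow F))
    rw [map_sub, hΦC] at hxe
    rw [← sub_add_cancel (Φ F) (s (F.coeff 0)), ← hxe, map_add, hs, Ideal.Quotient.factor_mk,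
      Ideal.Quotient.eq_zero_iff_mem.2 hx, zero_add]
  have hmem : ∀ F : MvPolynomial J.Cotangent (B ⧸ J), F.coeff 0 = 0 → π F ∈ m := fun F hF => by
    have h1 := hlow F
    rw [hF, map_zero, sub_zero] at h1
    exact Ideal.mem_map_of_mem _ h1
  have hkerΦ₂ : ∀ x, Φ₂ x = 0 → x ∈ m := by
    intro x hx
    obtain ⟨F, rfl⟩ := hπ x
    rw [hΦ₂] at hx
    exact hmem F (by rw [← hfac, hx, map_zero])
  have hnil : IsNilpotent (RingHom.ker Φ₂) :=
    ⟨2, eq_bot_iff.2 ((Ideal.pow_right_mono (fun _ hx => hkerΦ₂ _ hx) 2).trans hm2.le)⟩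
  have hsurj : Function.Surjective Φ₂ := by
    intro r
    obtain ⟨b, rfl⟩ := Ideal.Quotient.mk_surjective r
    obtain ⟨y, hy, hby⟩ := hsC b
    refine ⟨π (MvPolynomial.C (Ideal.Quotient.mk J b) -
      PP16Lib.linForm (B ⧸ J) J.Cotangent (Finsupp.single (J.toCotangent ⟨y, hy⟩) 1)), ?_⟩
    rw [hΦ₂, map_sub, hΦC, hΦl, hby]
    simp [q, hτ]
  obtain ⟨χ, hχ⟩ := exists_lift_adic J h Φ₂ hsurj hnil (Ideal.Quotient.mkₐ A (J ^ 2))
    ⟨2, fun x hx => Ideal.Quotient.eq_zero_iff_mem.2 hx⟩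
  have hχ' : ∀ b, Φ₂ (χ b) = Ideal.Quotient.mk (J ^ 2) b := fun b => AlgHom.congr_fun hχ b
  have hχC : ∀ b, π (MvPolynomial.C (Ideal.Quotient.mk J b)) - χ b ∈ m := by
    intro b
    obtain ⟨F, hF⟩ := hπ (χ b)
    rw [← hF, ← map_sub]
    refine hmem _ ?_
    have h1 : Φ F = Ideal.Quotient.mk (J ^ 2) b := by rw [← hΦ₂, hF, hχ']
    rw [MvPolynomial.coeff_sub, ← hfac F, h1, Ideal.Quotient.factor_mk]
    simp
  have hχm : ∀ z : J, ∃ c, χ z = π (PP16Lib.linForm (B ⧸ J) J.Cotangent c) := by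
    intro z
    have h1 := hχC z
    rw [Ideal.Quotient.eq_zero_iff_mem.2 z.2, map_zero, map_zero, zero_sub, neg_mem_iff] at h1
    obtain ⟨F, hF, hFe⟩ := (Ideal.mem_map_iff_of_surjective _ hπ).1 h1
    obtain ⟨c, hc⟩ := exists_linForm_sub_mem hF
    exact ⟨c, by rw [← hFe, ← sub_eq_zero, ← map_sub]; exact (hπk _).2 hc⟩
  choose lf hlf using hχm
  have hinj : ∀ c c' : J.Cotangent →₀ (B ⧸ J),
      π (PP16Lib.linForm (B ⧸ J) J.Cotangent c) = π (PP16Lib.linForm (B ⧸ J) J.Cotangent c') →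
        c = c' := fun c c' hcc => by
    ext p
    rw [← sub_eq_zero, ← map_sub, hπk] at hcc
    have h1 := (MvPolynomial.mem_pow_idealOfVars_iff' _ _).1 hcc (Finsupp.single p 1) (by simp)
    rwa [MvPolynomial.coeff_sub, coeff_single_of_linForm, coeff_single_of_linForm, sub_eq_zero] at h1
  have hJ2 : ∀ x ∈ J ^ 2, χ x = 0 := fun x hx => by
    refine Ideal.mem_bot.1 (hm2.le (apply_mem_pow χ (fun z hz => ?_) hx))
    rw [hlf ⟨z, hz⟩]
    exact Ideal.mem_map_of_mem _ (linForm_mem _)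
  have hwd : ∀ z z' : J, J.toCotangent z = J.toCotangent z' → lf z = lf z' := fun z z' he => by
    refine hinj _ _ ?_
    rw [← hlf, ← hlf, ← sub_eq_zero, ← map_sub]
    exact hJ2 _ (J.toCotangent_eq.1 he)
  let j : J.Cotangent →ₗ[B ⧸ J] J.Cotangent →₀ (B ⧸ J) :=
    { toFun := fun p => lf (rep J p)
      map_add' := fun p p' => by
        rw [hwd (rep J (p + p')) (rep J p + rep J p')
          (by rw [map_add, toCotangent_rep, toCotangent_rep, toCotangent_rep])]
        refine hinj _ _ ?_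
        rw [← hlf, Submodule.coe_add, map_add, map_add, hlf, hlf, ← map_add]
      map_smul' := fun c p => by
        obtain ⟨b, rfl⟩ := Ideal.Quotient.mk_surjective c
        rw [RingHom.id_apply, hwd (rep J (Ideal.Quotient.mk J b • p)) (b • rep J p)
          (by rw [map_smul, toCotangent_rep, toCotangent_rep, ← Ideal.Quotient.algebraMap_eq,
            algebraMap_smul])]
        refine hinj _ _ ?_
        rw [← hlf, Submodule.coe_smul, smul_eq_mul, map_mul, hlf, map_smul,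
          MvPolynomial.smul_eq_C_mul, map_mul, ← sub_eq_zero, ← sub_mul, ← Ideal.mem_bot, ← hm2,
          pow_two]
        refine Ideal.mul_mem_mul ?_ (Ideal.mem_map_of_mem _ (linForm_mem _))
        rw [← neg_sub, neg_mem_iff]
        exact hχC b }
  have hj : ∀ z : J, χ z = π (PP16Lib.linForm (B ⧸ J) J.Cotangent (j (J.toCotangent z))) :=
    fun z => by
      rw [hlf z, hwd z (rep J (J.toCotangent z)) (toCotangent_rep J _).symm]
      rfl
  refine ⟨j, q, χ, fun p => ?_, hχC, hj⟩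
  obtain ⟨z, rfl⟩ := J.toCotangent_surjective p
  have h1 := hχ' z
  rw [hj z, hΦ₂, hΦl] at h1
  obtain ⟨z', hz'⟩ := J.toCotangent_surjective (q (j (J.toCotangent z)))
  rw [← hz', hτ, Ideal.Quotient.eq] at h1
  rw [← hz', J.toCotangent_eq]
  exact h1

theorem projective_cotangent_of_adic (h : CAlgX.IsAdicFormallySmooth A B J) :
    Module.Projective (B ⧸ J) J.Cotangent := by
  obtain ⟨T, _, _, π, hπ, hπk⟩ := exists_model A (C := B ⧸ J) (σ := J.Cotangent) 2
  obtain ⟨j, q, _, hq, -, -⟩ := exists_coords_of_adic J h π hπ hπk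
  exact Module.Projective.of_split j q (LinearMap.ext hq)

/-- Injectivity of `Sym → gr`, through models of the truncated polynomial rings. -/
theorem canGr_injective_of_model (h : CAlgX.IsAdicFormallySmooth A B J) {ι : Type u} [Fintype ι]
    [Nonempty ι] {T R : Type u} [CommRing T] [Algebra A T] [CommRing R] [Algebra A R]
    (π : MvPolynomial J.Cotangent (B ⧸ J) →ₐ[A] T) (hπ : Function.Surjective π)
    (hπk : ∀ F, π F = 0 ↔ F ∈ idealOfVars J.Cotangent (B ⧸ J) ^ 2)
    (ρ : MvPolynomial J.Cotangent (B ⧸ J) →ₐ[A] R) (hρ : Function.Surjective ρ)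
    (hρk : ∀ F, ρ F = 0 ↔ F ∈ idealOfVars J.Cotangent (B ⧸ J) ^ (Fintype.card ι + 1))
    (f : R →ₐ[A] T) (hf : ∀ F, f (ρ F) = π F) : Function.Injective (canGr J ι) := by
  obtain ⟨j, q, χ, hq, hχC, hχX⟩ := exists_coords_of_adic J h π hπ hπk
  rw [injective_iff_map_eq_zero]
  intro t ht
  let I := idealOfVars J.Cotangent (B ⧸ J)
  let m : Ideal R := I.map ρ
  have hmn : m ^ (Fintype.card ι + 1) = ⊥ := by
    rw [← Ideal.map_pow, Ideal.map_eq_bot_iff_le_ker]
    exact fun F hF => (hρk F).2 hF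
  have hker : ∀ i ≤ 2, ∀ x, f x ∈ (I.map π) ^ i → x ∈ m ^ i := by
    intro i hi x hx
    obtain ⟨F, rfl⟩ := hρ x
    rw [hf, ← Ideal.map_pow, Ideal.mem_map_iff_of_surjective _ hπ] at hx
    obtain ⟨G, hG, hGF⟩ := hx
    have h1 : F - G ∈ I ^ 2 := (hπk _).1 (by rw [map_sub, hGF, sub_self])
    rw [← Ideal.map_pow]
    refine Ideal.mem_map_of_mem ρ ?_
    rw [← sub_add_cancel F G]
    exact add_mem (Ideal.pow_le_pow_right hi h1) hG
  have hker1 : ∀ x, f x ∈ I.map π → x ∈ m :=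
    fun x hx => (pow_one m).le (hker 1 (by omega) x ((pow_one (I.map π)).ge hx))
  have hnil : IsNilpotent (RingHom.ker f) :=
    ⟨Fintype.card ι + 1, eq_bot_iff.2 ((Ideal.pow_right_mono
      (fun x (hx : f x = 0) => hker1 x (hx ▸ zero_mem _)) _).trans hmn.le)⟩
  have hfs : Function.Surjective f := fun y => by
    obtain ⟨F, rfl⟩ := hπ y
    exact ⟨ρ F, hf F⟩
  have hχJ : ∀ z ∈ J, χ z ∈ I.map π := fun z hz => by
    rw [hχX ⟨z, hz⟩]
    exact Ideal.mem_map_of_mem _ (linForm_mem _)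
  obtain ⟨χn, hχn⟩ := exists_lift_adic J h f hfs hnil χ
    ⟨2, fun x hx => Ideal.mem_bot.1 ((show (I.map π) ^ 2 = ⊥ by
      rw [← Ideal.map_pow, Ideal.map_eq_bot_iff_le_ker]
      exact fun F hF => (hπk F).2 hF).le (apply_mem_pow χ hχJ hx))⟩
  have hfχ : ∀ b, f (χn b) = χ b := fun b => AlgHom.congr_fun hχn b
  have hJm : ∀ z ∈ J, χn z ∈ m := fun z hz => hker1 _ ((hfχ z).symm ▸ hχJ z hz)
  obtain ⟨x, hx, h1, h2⟩ := gr_compat J j m χn.toRingHom ρ.toRingHom hJm
    (fun b => hker1 _ (by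
      show f (ρ _ - χn b) ∈ _
      rw [map_sub, hfχ, hf]
      exact hχC b))
    (fun z => hker 2 le_rfl _ (by
      show f (ρ _ - χn z) ∈ _
      rw [map_sub, hfχ, hf, hχX z, sub_self]
      exact zero_mem _)) t
  have hx' : x ∈ J ^ (Fintype.card ι + 1) := (gcl_eq_zero J hx).1 (h1.symm.trans ht)
  have h4 : ρ (polyB J j ι t) = 0 := by
    have h6 := Ideal.mem_bot.1 (hmn.le (add_mem h2 (apply_mem_pow χn hJm hx')))
    exact (sub_add_cancel _ _).symm.trans h6
  exact polyB_injective J j q hq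
    ((eq_zero_of_mem_pow (isHomogeneous_polyB J j t) ((hρk _).1 h4)).trans
      (map_zero (polyB J j ι)).symm)

theorem symGrBijective_of_adic (h : CAlgX.IsAdicFormallySmooth A B J) :
    PP16.SymGrBijective B J := by
  rw [symGrBijective_iff]
  intro ι _ _
  have hn : 2 ≤ Fintype.card ι + 1 := by
    have : 0 < Fintype.card ι := Fintype.card_pos
    omega
  obtain ⟨T, _, _, π, hπ, hπk⟩ := exists_model A (C := B ⧸ J) (σ := J.Cotangent) 2
  obtain ⟨R, _, _, ρ, hρ, hρk⟩ :=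
    exists_model A (C := B ⧸ J) (σ := J.Cotangent) (Fintype.card ι + 1)
  have hle : RingHom.ker ρ.toRingHom ≤ RingHom.ker π.toRingHom := fun F hF =>
    (hπk F).2 (Ideal.pow_le_pow_right hn ((hρk F).1 hF))
  exact ⟨canGr_injective_of_model J h π hπ hπk ρ hρ hρk (AlgHom.liftOfSurjective ρ hρ π hle)
    (fun F => AlgHom.liftOfSurjective_apply _ _ _ _ _), canGr_surjective J ι⟩

end AdicJacLib
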