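import Mathlib
import Groth.Agent.AdicJacLib.Converse

/-!
# The Jacobian criterion of adic formal smoothness over an intermediate ring
-/

set_option autoImplicit false

universe u

namespace AdicJacLib

open TensorProduct KaehlerDifferential

theorem isNilpotent_ker_of_sq {R S F : Type*} [CommRing R] [CommRing S] [FunLike F R S]
    [RingHomClass F R S] (f : F) (h : ∀ x y, f x = 0 → f y = 0 → x * y = 0) :
    IsNilpotent (RingHom.ker f) := by
  refine ⟨2, ?_⟩
  rw [Ideal.zero_eq_bot, pow_two, eq_bot_iff, Ideal.mul_le]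
  exact fun x hx y hy => Ideal.mem_bot.2 (h x y hx hy)

section Reduction

variable {A B : Type u} [CommRing A] [CommRing B] [Algebra A B] (J : Ideal B)

/-- It suffices to lift through square-zero extensions by kernels killed by `J`. -/
theorem isAdicFormallySmooth_of_killed
    (h : ∀ (T S : Type u) [CommRing T] [CommRing S] [Algebra A T] [Algebra A S] (f : T →ₐ[A] S),
      Function.Surjective f → (∀ x y, f x = 0 → f y = 0 → x * y = 0) →
      ∀ ψ : B →ₐ[A] S, (∃ k : ℕ, ∀ x ∈ J ^ k, ψ x = 0) →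
      (∀ (t y : T) (b : B), b ∈ J → f t = ψ b → f y = 0 → t * y = 0) →
      ∃ χ : B →ₐ[A] T, f.comp χ = ψ) :
    CAlgX.IsAdicFormallySmooth A B J := by
  intro T _ _ I hI ψ hψ
  obtain ⟨k, hk⟩ := hψ
  let K : Ideal T := (J.map (ψ : B →+* T ⧸ I)).comap (Ideal.Quotient.mk I)
  let L : ℕ → Ideal T := fun i => K ^ i * I
  have hI2 : ∀ x y, x ∈ I → y ∈ I → x * y = 0 := fun x y hx hy => by
    rw [← Ideal.mem_bot, ← hI, pow_two]
    exact Ideal.mul_mem_mul hx hy
  have hLI : ∀ i, L i ≤ I := fun i => Ideal.mul_le_right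
  have hLanti : ∀ i, L (i + 1) ≤ L i := fun i =>
    Ideal.mul_mono_left (Ideal.pow_le_pow_right (Nat.le_succ i))
  have hKk : K ^ k ≤ I := by
    intro x hx
    have h1 : K.map (Ideal.Quotient.mk I) ≤ J.map (ψ : B →+* T ⧸ I) :=
      Ideal.map_comap_le
    have h2 : Ideal.Quotient.mk I x ∈ (J.map (ψ : B →+* T ⧸ I)) ^ k :=
      Ideal.pow_right_mono h1 k (Ideal.map_pow (Ideal.Quotient.mk I) K k ▸ Ideal.mem_map_of_mem _ hx)
    have h3 : (J ^ k).map (ψ : B →+* T ⧸ I) = ⊥ := by
      rw [Ideal.map_eq_bot_iff_le_ker]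
      exact fun b hb => hk b hb
    rw [← Ideal.map_pow, h3, Ideal.mem_bot] at h2
    exact Ideal.Quotient.eq_zero_iff_mem.1 h2
  have hLk : L k = ⊥ := by
    rw [eq_bot_iff, ← hI, pow_two]
    exact Ideal.mul_mono_left hKk
  have key : ∀ i, ∃ χ : B →ₐ[A] T ⧸ L i,
      (Ideal.Quotient.factorₐ A (hLI i)).comp χ = ψ := by
    intro i
    induction i with
    | zero =>
      have h0 : L 0 = I := by simp [L]
      refine ⟨(Ideal.Quotient.factorₐ A (le_of_eq h0.symm)).comp ψ, AlgHom.ext fun b => ?_⟩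
      obtain ⟨t, ht⟩ := Ideal.Quotient.mk_surjective (ψ b)
      simp [← ht]
    | succ i ih =>
      obtain ⟨χi, hχi⟩ := ih
      have hχi' : ∀ b, Ideal.Quotient.factorₐ A (hLI i) (χi b) = ψ b :=
        fun b => AlgHom.congr_fun hχi b
      let f : (T ⧸ L (i + 1)) →ₐ[A] T ⧸ L i := Ideal.Quotient.factorₐ A (hLanti i)
      have hf : Function.Surjective f := fun y => by
        obtain ⟨y, rfl⟩ := Ideal.Quotient.mk_surjective y
        exact ⟨Ideal.Quotient.mk _ y, rfl⟩
      have hker : ∀ x, f x = 0 → ∃ t ∈ L i, Ideal.Quotient.mk (L (i + 1)) t = x := fun x hx => by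
        obtain ⟨t, rfl⟩ := Ideal.Quotient.mk_surjective x
        exact ⟨t, Ideal.Quotient.eq_zero_iff_mem.1 hx, rfl⟩
      obtain ⟨χ, hχ⟩ := h _ _ f hf (fun x y hx hy => by
          obtain ⟨s, hs, rfl⟩ := hker x hx
          obtain ⟨t, ht, rfl⟩ := hker y hy
          rw [← map_mul, hI2 s t (hLI i hs) (hLI i ht), map_zero]) χi
        ⟨2 * k, fun x hx => by
          rw [two_mul, pow_add] at hx
          refine Submodule.mul_induction_on hx (fun a ha b hb => ?_)
            (fun a b ha hb => by rw [map_add, ha, hb, add_zero])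
          have hab : ∀ c ∈ J ^ k, ∃ t ∈ I, Ideal.Quotient.mk (L i) t = χi c := fun c hc => by
            obtain ⟨t, ht⟩ := Ideal.Quotient.mk_surjective (χi c)
            refine ⟨t, Ideal.Quotient.eq_zero_iff_mem.1 ?_, ht⟩
            have h1 := hχi' c
            rw [hk c hc, ← ht] at h1
            exact h1
          obtain ⟨s, hs, hs'⟩ := hab a ha
          obtain ⟨t, ht, ht'⟩ := hab b hb
          rw [map_mul, ← hs', ← ht', ← map_mul, hI2 s t hs ht, map_zero]⟩
        (fun t y b hb ht hy => by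
          obtain ⟨t, rfl⟩ := Ideal.Quotient.mk_surjective t
          obtain ⟨y, hy', rfl⟩ := hker y hy
          rw [← map_mul, Ideal.Quotient.eq_zero_iff_mem]
          have htK : t ∈ K := by
            show Ideal.Quotient.mk I t ∈ J.map (ψ : B →+* T ⧸ I)
            have h1 := hχi' b
            rw [← ht] at h1
            rw [show Ideal.Quotient.mk I t = ψ b from h1]
            exact Ideal.mem_map_of_mem (ψ : B →+* T ⧸ I) hb
          show t * y ∈ K ^ (i + 1) * I
          rw [pow_succ', mul_assoc]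
          exact Ideal.mul_mem_mul htK hy')
      refine ⟨χ, AlgHom.ext fun b => ?_⟩
      rw [AlgHom.comp_apply, ← hχi' b, ← show f (χ b) = χi b from AlgHom.congr_fun hχ b]
      obtain ⟨t, ht⟩ := Ideal.Quotient.mk_surjective (χ b)
      rw [← ht]
      rfl
  obtain ⟨χ, hχ⟩ := key k
  refine ⟨((Ideal.quotientEquivAlgOfEq A hLk).trans (AlgEquiv.quotientBot A T)).toAlgHom.comp χ,
    AlgHom.ext fun b => ?_⟩
  rw [← AlgHom.congr_fun hχ b]
  obtain ⟨t, ht⟩ := Ideal.Quotient.mk_surjective (χ b)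
  simp [← ht]

end Reduction

section Tower

variable {Λ A B : Type u} [CommRing Λ] [CommRing A] [CommRing B] [Algebra Λ A] [Algebra A B]
  [Algebra Λ B] [IsScalarTower Λ A B] (J : Ideal B)

/-- Composition with a formally smooth map. -/
theorem isAdicFormallySmooth_comp [Algebra.FormallySmooth Λ A]
    (h : CAlgX.IsAdicFormallySmooth A B J) : CAlgX.IsAdicFormallySmooth Λ B J := by
  intro T _ _ I hI ψ hψ
  have hnil : IsNilpotent I := ⟨2, hI⟩
  obtain ⟨φ, hφ⟩ := Algebra.FormallySmooth.exists_lift I hnil (ψ.comp (IsScalarTower.toAlgHom Λ A B))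
  letI : Algebra A T := φ.toRingHom.toAlgebra
  haveI : IsScalarTower Λ A T := IsScalarTower.of_algebraMap_eq fun l => (φ.commutes l).symm
  let ψA : B →ₐ[A] T ⧸ I :=
    { (ψ : B →+* T ⧸ I) with
      commutes' := fun a => (AlgHom.congr_fun hφ a).symm }
  obtain ⟨χ, hχ⟩ := h T I hI ψA hψ
  exact ⟨χ.restrictScalars Λ, AlgHom.ext fun b => AlgHom.congr_fun hχ b⟩

/-- The canonical map `C ⊗_A Ω_{A/Λ} → C ⊗_B Ω_{B/Λ}` for `C = B/J`. -/
noncomputable def toBase : (B ⧸ J) ⊗[A] Ω[A⁄Λ] →ₗ[B ⧸ J] (B ⧸ J) ⊗[B] Ω[B⁄Λ] :=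
  ((KaehlerDifferential.mapBaseChange Λ A B).baseChange (B ⧸ J)) ∘ₗ
    (TensorProduct.AlgebraTensorModule.cancelBaseChange A B (B ⧸ J) (B ⧸ J) Ω[A⁄Λ]).symm.toLinearMap

theorem toBase_tmul_D (c : B ⧸ J) (a : A) :
    toBase (Λ := Λ) (A := A) J (c ⊗ₜ[A] D Λ A a) = c ⊗ₜ[B] D Λ B (algebraMap A B a) := by
  simp [toBase]

theorem toBase_injective_iff :
    Function.Injective (toBase (Λ := Λ) (A := A) J) ↔
      Function.Injective ((mapBaseChange Λ A B).lTensor (B ⧸ J)) := by
  rw [toBase, LinearMap.coe_comp, LinearEquiv.coe_coe,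
    EquivLike.injective_comp, LinearMap.baseChange_eq_ltensor]

/-- The projection `C ⊗_B Ω_{B/Λ} → C ⊗_B Ω_{B/A}`. -/
noncomputable def toRel : (B ⧸ J) ⊗[B] Ω[B⁄Λ] →ₗ[B ⧸ J] (B ⧸ J) ⊗[B] Ω[B⁄A] :=
  (KaehlerDifferential.map Λ A B B).baseChange (B ⧸ J)

theorem toRel_surjective : Function.Surjective (toRel (Λ := Λ) (A := A) J) := by
  rw [toRel, LinearMap.baseChange_eq_ltensor]
  exact LinearMap.lTensor_surjective _ (KaehlerDifferential.map_surjective Λ A B)

theorem toBase_exact : Function.Exact (toBase (Λ := Λ) (A := A) J) (toRel (Λ := Λ) (A := A) J) := by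
  have h1 : Function.Exact ((KaehlerDifferential.mapBaseChange Λ A B).baseChange (B ⧸ J))
      (toRel (Λ := Λ) (A := A) J) := by
    simp only [toRel, LinearMap.baseChange_eq_ltensor]
    exact lTensor_exact (B ⧸ J) (KaehlerDifferential.exact_mapBaseChange_map Λ A B)
      (KaehlerDifferential.map_surjective Λ A B)
  intro y
  refine (h1 y).trans ⟨?_, ?_⟩
  · rintro ⟨t, rfl⟩
    refine ⟨TensorProduct.AlgebraTensorModule.cancelBaseChange A B (B ⧸ J) (B ⧸ J) Ω[A⁄Λ] t, ?_⟩
    simp [toBase]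
  · rintro ⟨t, rfl⟩
    exact ⟨_, rfl⟩

theorem exists_derivation_extension (h : CAlgX.IsAdicFormallySmooth A B J) {C M : Type u}
    [CommRing C] [Algebra B C] [Algebra A C] [IsScalarTower A B C] [Algebra Λ C]
    [IsScalarTower Λ A C] [IsScalarTower Λ B C] (hC : ∀ x ∈ J, algebraMap B C x = 0)
    [AddCommGroup M] [Module C M] [Module Cᵐᵒᵖ M] [IsCentralScalar C M] [Module B M]
    [IsScalarTower B C M] [Module A M] [IsScalarTower A C M] [Module Λ M] [IsScalarTower Λ C M]
    (d : Derivation Λ A M) :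
    ∃ δ : Derivation Λ B M, ∀ a, δ (algebraMap A B a) = d a := by
  let φ : A →+* TrivSqZeroExt C M :=
    { toFun := fun a => TrivSqZeroExt.inl (algebraMap A C a) + TrivSqZeroExt.inr (d a)
      map_one' := by simp
      map_mul' := fun a b => by
        apply TrivSqZeroExt.ext
        · simp
        · simp [Derivation.leibniz, algebraMap_smul]
      map_zero' := by simp
      map_add' := fun a b => by
        simp only [map_add, TrivSqZeroExt.inl_add, TrivSqZeroExt.inr_add]
        abel }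
  letI : Algebra A (TrivSqZeroExt C M) := φ.toAlgebra
  let f : TrivSqZeroExt C M →ₐ[A] C :=
    { (TrivSqZeroExt.fstHom ℕ C M).toRingHom with
      commutes' := fun a => by
        show TrivSqZeroExt.fst (φ a) = algebraMap A C a
        simp [φ] }
  have hf : ∀ x, f x = TrivSqZeroExt.fst x := fun x => rfl
  have hnil : IsNilpotent (RingHom.ker f) := isNilpotent_ker_of_sq f fun x y hx hy => by
    rw [hf] at hx hy
    apply TrivSqZeroExt.ext <;> simp [hx, hy]
  obtain ⟨χ, hχ⟩ := exists_lift_adic J h f (fun c => ⟨TrivSqZeroExt.inl c, rfl⟩) hnil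
    (IsScalarTower.toAlgHom A B C) ⟨1, fun x hx => hC x (by rwa [pow_one] at hx)⟩
  have hfst : ∀ b, TrivSqZeroExt.fst (χ b) = algebraMap B C b := fun b => AlgHom.congr_fun hχ b
  have hχa : ∀ a, χ (algebraMap A B a) = φ a := fun a => χ.commutes a
  let δ : Derivation Λ B M := Derivation.mk'
    { toFun := fun b => TrivSqZeroExt.snd (χ b)
      map_add' := fun x y => by rw [map_add, TrivSqZeroExt.snd_add]
      map_smul' := fun l x => by
        rw [Algebra.smul_def, map_mul, TrivSqZeroExt.snd_mul, hfst, hfst,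
          IsScalarTower.algebraMap_apply Λ A B, hχa, RingHom.id_apply]
        simp [φ, algebraMap_smul, ← IsScalarTower.algebraMap_apply] }
    (fun x y => by
      show TrivSqZeroExt.snd (χ (x * y)) = x • TrivSqZeroExt.snd (χ y) + y • TrivSqZeroExt.snd (χ x)
      rw [map_mul, TrivSqZeroExt.snd_mul, hfst, hfst, op_smul_eq_smul, algebraMap_smul, algebraMap_smul])
  refine ⟨δ, fun a => ?_⟩
  show TrivSqZeroExt.snd (χ (algebraMap A B a)) = _
  rw [hχa]
  simp [φ]

theorem exists_derivation_retraction (h : CAlgX.IsAdicFormallySmooth A B J) {C : Type u}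
    [CommRing C] [Algebra B C] [Algebra A C] [IsScalarTower A B C] [Algebra Λ C]
    [IsScalarTower Λ A C] [IsScalarTower Λ B C] (hC : ∀ x ∈ J, algebraMap B C x = 0) :
    ∃ l : C ⊗[B] Ω[B⁄Λ] →ₗ[C] C ⊗[A] Ω[A⁄Λ],
      ∀ c a, l (c ⊗ₜ[B] D Λ B (algebraMap A B a)) = c ⊗ₜ[A] D Λ A a := by
  obtain ⟨δ, hδ⟩ := exists_derivation_extension J h hC
    ((TensorProduct.mk A C Ω[A⁄Λ] 1).compDer (D Λ A))
  refine ⟨δ.liftKaehlerDifferential.liftBaseChange C, fun c a => ?_⟩
  rw [LinearMap.liftBaseChange_tmul, Derivation.liftKaehlerDifferential_comp_D, hδ]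
  show c • ((1 : C) ⊗ₜ[A] D Λ A a) = _
  rw [smul_tmul', smul_eq_mul, mul_one]

/-- Adic formal smoothness splits `toBase`. -/
theorem exists_retraction_of_adic (h : CAlgX.IsAdicFormallySmooth A B J) :
    ∃ l : (B ⧸ J) ⊗[B] Ω[B⁄Λ] →ₗ[B ⧸ J] (B ⧸ J) ⊗[A] Ω[A⁄Λ],
      l ∘ₗ toBase (Λ := Λ) (A := A) J = LinearMap.id := by
  obtain ⟨l, hl⟩ := exists_derivation_retraction (Λ := Λ) (A := A) (C := B ⧸ J) J h
    fun x hx => Ideal.Quotient.eq_zero_iff_mem.2 hx
  refine ⟨l, TensorProduct.AlgebraTensorModule.ext fun c ω => ?_⟩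
  have hω : ω ∈ Submodule.span A (Set.range (D Λ A)) := by
    rw [KaehlerDifferential.span_range_derivation]; trivial
  induction hω using Submodule.span_induction generalizing c with
  | mem x hx =>
    obtain ⟨a, rfl⟩ := hx
    rw [LinearMap.comp_apply, toBase_tmul_D, hl, LinearMap.id_apply]
  | zero => rw [tmul_zero, map_zero, map_zero]
  | add x y _ _ hx hy => rw [tmul_add, map_add, map_add, hx, hy]
  | smul a x _ hx => rw [← smul_tmul, hx]

theorem exists_retraction_of_injective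
    (hinj : Function.Injective (toBase (Λ := Λ) (A := A) J))
    [Module.Projective (B ⧸ J) ((B ⧸ J) ⊗[B] Ω[B⁄A])] :
    ∃ l : (B ⧸ J) ⊗[B] Ω[B⁄Λ] →ₗ[B ⧸ J] (B ⧸ J) ⊗[A] Ω[A⁄Λ],
      l ∘ₗ toBase (Λ := Λ) (A := A) J = LinearMap.id := by
  obtain ⟨s, hs⟩ := Module.projective_lifting_property (toRel (Λ := Λ) (A := A) J) LinearMap.id
    (toRel_surjective (Λ := Λ) (A := A) J)
  have hmem : ∀ x, x - s (toRel (Λ := Λ) (A := A) J x) ∈ LinearMap.range (toBase (Λ := Λ) (A := A) J) := fun x =>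
    (toBase_exact (Λ := Λ) (A := A) J _).1 (by
      rw [map_sub, show toRel (Λ := Λ) (A := A) J (s (toRel (Λ := Λ) (A := A) J x)) = toRel (Λ := Λ) (A := A) J x from LinearMap.congr_fun hs _, sub_self])
  refine ⟨(LinearEquiv.ofInjective _ hinj).symm.toLinearMap ∘ₗ
    LinearMap.codRestrict _ (LinearMap.id - s ∘ₗ toRel (Λ := Λ) (A := A) J) hmem, LinearMap.ext fun x => ?_⟩
  show (LinearEquiv.ofInjective _ hinj).symm _ = x
  rw [LinearEquiv.symm_apply_eq]
  apply Subtype.ext
  show toBase (Λ := Λ) (A := A) J x - s (toRel (Λ := Λ) (A := A) J (toBase (Λ := Λ) (A := A) J x)) = _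
  rw [(toBase_exact (Λ := Λ) (A := A) J).apply_apply_eq_zero, map_zero, sub_zero]
  rfl

theorem projective_rel_of_retraction [Module.Projective (B ⧸ J) ((B ⧸ J) ⊗[B] Ω[B⁄Λ])]
    (l : (B ⧸ J) ⊗[B] Ω[B⁄Λ] →ₗ[B ⧸ J] (B ⧸ J) ⊗[A] Ω[A⁄Λ])
    (hl : l ∘ₗ toBase (Λ := Λ) (A := A) J = LinearMap.id) :
    Module.Projective (B ⧸ J) ((B ⧸ J) ⊗[B] Ω[B⁄A]) := by
  let π := toRel (Λ := Λ) (A := A) J
  let g : (B ⧸ J) ⊗[B] Ω[B⁄Λ] →ₗ[B ⧸ J] (B ⧸ J) ⊗[B] Ω[B⁄Λ] := LinearMap.id - toBase (Λ := Λ) (A := A) J ∘ₗ l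
  have hker : LinearMap.ker π ≤ LinearMap.ker g := by
    intro x hx
    obtain ⟨y, rfl⟩ := (toBase_exact (Λ := Λ) (A := A) J x).1 hx
    show toBase (Λ := Λ) (A := A) J y - toBase (Λ := Λ) (A := A) J (l (toBase (Λ := Λ) (A := A) J y)) = 0
    rw [show l (toBase (Λ := Λ) (A := A) J y) = y from LinearMap.congr_fun hl y, sub_self]
  let e := LinearMap.quotKerEquivOfSurjective π (toRel_surjective (Λ := Λ) (A := A) J)
  refine Module.Projective.of_split ((LinearMap.ker π).liftQ g hker ∘ₗ e.symm.toLinearMap) π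
    (LinearMap.ext fun y => ?_)
  obtain ⟨x, rfl⟩ := toRel_surjective (Λ := Λ) (A := A) J y
  show π ((LinearMap.ker π).liftQ g hker (e.symm (π x))) = π x
  rw [show e.symm (π x) = Submodule.Quotient.mk x from e.injective (by
    rw [LinearEquiv.apply_symm_apply]; rfl), Submodule.liftQ_apply]
  show π (x - toBase (Λ := Λ) (A := A) J (l x)) = π x
  rw [map_sub, (toBase_exact (Λ := Λ) (A := A) J).apply_apply_eq_zero, sub_zero]

theorem projective_tensor_kaehler {C P : Type u} [CommRing C] [Algebra B C] [Algebra Λ C]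
    [IsScalarTower Λ B C] [Algebra.FormallySmooth Λ C] (hsurj : Function.Surjective (algebraMap B C))
    [AddCommGroup P] [Module B P] [Module C P] [IsScalarTower B C P] [Module.Projective C P]
    (e : (RingHom.ker (algebraMap B C)).Cotangent ≃ₗ[B] P) :
    Module.Projective C (C ⊗[B] Ω[B⁄Λ]) := by
  let f : B →ₐ[Λ] C := IsScalarTower.toAlgHom Λ B C
  have hfs : Function.Surjective f.kerSquareLift := fun c => by
    obtain ⟨b, rfl⟩ := hsurj c
    exact ⟨Ideal.Quotient.mk _ b, rfl⟩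
  have hnil : IsNilpotent (RingHom.ker f.kerSquareLift) := by
    refine ⟨2, ?_⟩
    show RingHom.ker f.kerSquareLift.toRingHom ^ 2 = ⊥
    rw [AlgHom.ker_kerSquareLift]
    exact Ideal.cotangentIdeal_square _
  obtain ⟨l, hl⟩ := (retractionKerCotangentToTensorEquivSection (R := Λ) hsurj).symm
    ⟨Algebra.FormallySmooth.liftOfSurjective (AlgHom.id Λ C) f.kerSquareLift hfs hnil,
      Algebra.FormallySmooth.comp_liftOfSurjective _ _ _ _⟩
  let i : P →ₗ[C] C ⊗[B] Ω[B⁄Λ] :=
    (KaehlerDifferential.kerCotangentToTensor Λ B C ∘ₗ e.symm.toLinearMap).extendScalarsOfSurjective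
      hsurj
  let lC : C ⊗[B] Ω[B⁄Λ] →ₗ[C] P := (e.toLinearMap ∘ₗ l).extendScalarsOfSurjective hsurj
  have hli : ∀ c, lC (i c) = c := fun c => by
    show e (l (KaehlerDifferential.kerCotangentToTensor Λ B C (e.symm c))) = c
    rw [show l (KaehlerDifferential.kerCotangentToTensor Λ B C (e.symm c)) = e.symm c from
      LinearMap.congr_fun hl _, LinearEquiv.apply_symm_apply]
  let g := KaehlerDifferential.mapBaseChange Λ B C
  obtain ⟨σ, hσ⟩ := Module.projective_lifting_property g LinearMap.id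
    (KaehlerDifferential.mapBaseChange_surjective Λ B C hsurj)
  have hσ' : ∀ y, g (σ y) = y := LinearMap.congr_fun hσ
  refine Module.Projective.of_split (lC.prod g)
    (i.coprod (σ - i ∘ₗ lC ∘ₗ σ)) (LinearMap.ext fun x => ?_)
  show i (lC x) + (σ (g x) - i (lC (σ (g x)))) = x
  obtain ⟨y, hy⟩ := (KaehlerDifferential.exact_kerCotangentToTensor_mapBaseChange Λ B C hsurj
    (x - σ (g x))).1 (by rw [map_sub, hσ', sub_self])
  have hc : i (e y) = x - σ (g x) := by
    show KaehlerDifferential.kerCotangentToTensor Λ B C (e.symm (e y)) = _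
    rw [LinearEquiv.symm_apply_apply, hy]
  have h1 : lC x - lC (σ (g x)) = e y := by rw [← map_sub, ← hc, hli]
  rw [← h1, map_sub] at hc
  linear_combination (norm := module) hc

theorem exists_cotangentEquiv (K : Ideal B) (h : K = J) :
    Nonempty (K.Cotangent ≃ₗ[B] J.Cotangent) := by
  subst h
  exact ⟨LinearEquiv.refl _ _⟩

theorem projective_base [Algebra.FormallySmooth Λ (B ⧸ J)]
    [Module.Projective (B ⧸ J) J.Cotangent] :
    Module.Projective (B ⧸ J) ((B ⧸ J) ⊗[B] Ω[B⁄Λ]) := by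
  obtain ⟨e⟩ := exists_cotangentEquiv J (RingHom.ker (algebraMap B (B ⧸ J)))
    (Ideal.mk_ker : RingHom.ker (Ideal.Quotient.mk J) = J)
  exact projective_tensor_kaehler Ideal.Quotient.mk_surjective e

/-- A retraction of `toBase` and adic smoothness over `Λ` give adic smoothness over `A`. -/
theorem isAdicFormallySmooth_of_retraction
    (l : (B ⧸ J) ⊗[B] Ω[B⁄Λ] →ₗ[B ⧸ J] (B ⧸ J) ⊗[A] Ω[A⁄Λ])
    (hl : l ∘ₗ toBase (Λ := Λ) (A := A) J = LinearMap.id) (hB : CAlgX.IsAdicFormallySmooth Λ B J) :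
    CAlgX.IsAdicFormallySmooth A B J := by
  refine isAdicFormallySmooth_of_killed J fun T S _ _ _ _ f hf hsq ψ hψ hkill => ?_
  letI : Algebra Λ T := ((algebraMap A T).comp (algebraMap Λ A)).toAlgebra
  letI : Algebra Λ S := ((algebraMap A S).comp (algebraMap Λ A)).toAlgebra
  haveI : IsScalarTower Λ A T := IsScalarTower.of_algebraMap_eq fun _ => rfl
  haveI : IsScalarTower Λ A S := IsScalarTower.of_algebraMap_eq fun _ => rfl
  let fΛ : T →ₐ[Λ] S := f.restrictScalars Λ
  let ψΛ : B →ₐ[Λ] S := ψ.restrictScalars Λ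
  have hnil : IsNilpotent (RingHom.ker fΛ) := isNilpotent_ker_of_sq fΛ hsq
  obtain ⟨χ₀, hχ₀⟩ := exists_lift_adic J hB fΛ hf hnil ψΛ hψ
  have hfχ : ∀ b, f (χ₀ b) = ψ b := fun b => AlgHom.congr_fun hχ₀ b
  let N : AddSubgroup T := f.toRingHom.toAddMonoidHom.ker
  have hmemN : ∀ x : T, x ∈ N ↔ f x = 0 := fun x => Iff.rfl
  have hact : ∀ (b b' : B), Ideal.Quotient.mk J b = Ideal.Quotient.mk J b' → ∀ y : N,
      χ₀ b * (y : T) = χ₀ b' * y := fun b b' h y => by
    rw [← sub_eq_zero, ← sub_mul, ← map_sub]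
    exact hkill _ _ (b - b') (Ideal.Quotient.eq.1 h) (hfχ _) y.2
  let σ := Function.surjInv (Ideal.Quotient.mk_surjective (I := J))
  have hσ : ∀ c, Ideal.Quotient.mk J (σ c) = c := Function.surjInv_eq _
  letI : SMul (B ⧸ J) N := ⟨fun c y => ⟨χ₀ (σ c) * y, by
    rw [hmemN, map_mul, (hmemN _).1 y.2, mul_zero]⟩⟩
  have hsmul : ∀ (b : B) (y : N), ((Ideal.Quotient.mk J b • y : N) : T) = χ₀ b * y := fun b y =>
    hact _ _ (hσ _) y
  letI : Module (B ⧸ J) N :=
    { one_smul := fun y => Subtype.ext (by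
        rw [show (1 : B ⧸ J) = Ideal.Quotient.mk J 1 from rfl, hsmul, map_one, one_mul])
      mul_smul := fun c c' y => Subtype.ext (by
        obtain ⟨b, rfl⟩ := Ideal.Quotient.mk_surjective c
        obtain ⟨b', rfl⟩ := Ideal.Quotient.mk_surjective c'
        rw [← map_mul, hsmul, hsmul, hsmul, map_mul, mul_assoc])
      smul_zero := fun c => Subtype.ext (mul_zero _)
      smul_add := fun c y y' => Subtype.ext (mul_add _ _ _)
      add_smul := fun c c' y => Subtype.ext (by
        obtain ⟨b, rfl⟩ := Ideal.Quotient.mk_surjective c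
        obtain ⟨b', rfl⟩ := Ideal.Quotient.mk_surjective c'
        rw [← map_add, hsmul, AddSubgroup.coe_add, hsmul, hsmul, map_add, add_mul])
      zero_smul := fun y => Subtype.ext (by
        rw [show (0 : B ⧸ J) = Ideal.Quotient.mk J 0 from rfl, hsmul, map_zero, zero_mul]; rfl) }
  letI : Module A N := Module.compHom N (algebraMap A (B ⧸ J))
  haveI : IsScalarTower A (B ⧸ J) N := ⟨fun a c y => by
    show (a • c) • y = algebraMap A (B ⧸ J) a • c • y
    rw [Algebra.smul_def, mul_smul]⟩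
  letI : Module Λ N := Module.compHom N (algebraMap Λ (B ⧸ J))
  have hA : ∀ (a : A) (y : N), ((a • y : N) : T) = χ₀ (algebraMap A B a) * y := fun a y =>
    hsmul (algebraMap A B a) y
  have hΛ : ∀ (r : Λ) (y : N), ((r • y : N) : T) = algebraMap Λ T r * y := fun r y => by
    refine (hsmul (algebraMap Λ B r) y).trans ?_
    rw [χ₀.commutes]
  haveI : IsScalarTower Λ A N := ⟨fun r a y => Subtype.ext (by
    rw [hA, hΛ, hA, Algebra.smul_def, map_mul, ← IsScalarTower.algebraMap_apply Λ A B, map_mul,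
      χ₀.commutes, mul_assoc])⟩
  have hDmem : ∀ a, algebraMap A T a - χ₀ (algebraMap A B a) ∈ N := fun a => by
    rw [hmemN, map_sub, hfχ, AlgHom.commutes, AlgHom.commutes, sub_self]
  have hA' : ∀ a, ∀ y : N, algebraMap A T a * (y : T) = χ₀ (algebraMap A B a) * y := fun a y => by
    rw [← sub_eq_zero, ← sub_mul]
    exact hsq _ _ (hDmem a) y.2
  let d : Derivation Λ A N := Derivation.mk'
    { toFun := fun a => ⟨algebraMap A T a - χ₀ (algebraMap A B a), hDmem a⟩
      map_add' := fun a b => Subtype.ext (by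
        show _ = (algebraMap A T a - _) + (algebraMap A T b - _)
        simp only [map_add]
        ring)
      map_smul' := fun r a => Subtype.ext (by
        rw [RingHom.id_apply, hΛ]
        show _ = algebraMap Λ T r * (algebraMap A T a - χ₀ (algebraMap A B a))
        simp only [Algebra.smul_def, map_mul, ← IsScalarTower.algebraMap_apply Λ A T,
          ← IsScalarTower.algebraMap_apply Λ A B, AlgHom.commutes]
        ring) }
    (fun a b => Subtype.ext (by
      show algebraMap A T (a * b) - χ₀ (algebraMap A B (a * b)) = _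
      rw [AddSubgroup.coe_add, hA, hA]
      show _ = χ₀ (algebraMap A B a) * (algebraMap A T b - χ₀ (algebraMap A B b)) +
        χ₀ (algebraMap A B b) * (algebraMap A T a - χ₀ (algebraMap A B a))
      have h0 := hsq _ _ (hDmem a) (hDmem b)
      simp only [map_mul]
      linear_combination (norm := ring) h0))
  let Φ : (B ⧸ J) ⊗[A] Ω[A⁄Λ] →ₗ[B ⧸ J] N := d.liftKaehlerDifferential.liftBaseChange (B ⧸ J)
  let δ : B → N := fun b => Φ (l ((1 : B ⧸ J) ⊗ₜ[B] D Λ B b))
  have hδadd : ∀ x y, δ (x + y) = δ x + δ y := fun x y => by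
    simp only [δ, map_add, tmul_add]
  have hδmul : ∀ x y, (δ (x * y) : T) = χ₀ x * δ y + χ₀ y * δ x := fun x y => by
    have h1 : (1 : B ⧸ J) ⊗ₜ[B] D Λ B (x * y) = Ideal.Quotient.mk J x • ((1 : B ⧸ J) ⊗ₜ[B] D Λ B y) +
        Ideal.Quotient.mk J y • ((1 : B ⧸ J) ⊗ₜ[B] D Λ B x) := by
      rw [Derivation.leibniz, tmul_add, tmul_smul, tmul_smul, ← Ideal.Quotient.algebraMap_eq,
        algebraMap_smul, algebraMap_smul]
    simp only [δ, h1, map_add, map_smul, AddSubgroup.coe_add, hsmul]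
  have hδA : ∀ a, (δ (algebraMap A B a) : T) = algebraMap A T a - χ₀ (algebraMap A B a) := fun a => by
    show (Φ (l ((1 : B ⧸ J) ⊗ₜ[B] D Λ B (algebraMap A B a))) : T) = _
    rw [← toBase_tmul_D, show l (toBase (Λ := Λ) (A := A) J ((1 : B ⧸ J) ⊗ₜ[A] D Λ A a)) = _ from
      LinearMap.congr_fun hl _, LinearMap.id_apply, LinearMap.liftBaseChange_tmul, one_smul,
      Derivation.liftKaehlerDifferential_comp_D]
    rfl
  have hδ1 : (δ 1 : T) = 0 := by simp [δ]
  refine ⟨{ toFun := fun b => χ₀ b + δ b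
            map_one' := by rw [map_one, hδ1, add_zero]
            map_mul' := fun x y => by
              have h0 := hsq _ _ (δ x).2 (δ y).2
              rw [map_mul, hδmul]
              linear_combination (norm := ring) -h0
            map_zero' := by simp [δ]
            map_add' := fun x y => by rw [map_add, hδadd, AddSubgroup.coe_add]; ring
            commutes' := fun a => by rw [hδA]; ring }, AlgHom.ext fun b => ?_⟩
  show f (χ₀ b + δ b) = ψ b
  rw [map_add, show f (δ b : T) = 0 from (δ b).2, add_zero, hfχ]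

end Tower

end AdicJacLib
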